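import Mathlib

/-!
# LEMMA SINGER (#21702, helper369), part 1: the algebra generated by an abelian group of odd order over `F₂`

`ρ : K →* End_{F₂}(Y)`, `K` finite of odd order, `A ≤ K` abelian; `alg ρ A` the algebra generated by `ρ(A)`.

* `pow_eq` : `α ^ (2 ^ f) = α` for all `α ∈ alg ρ A` (`f = φ(|K|)`);
* `idem_mem` : `α ^ (2 ^ f - 1)` is an idempotent;
* `exists_min` : there is a minimal non-zero idempotent `e`; its conjugates are equal or orthogonal;
* `exists_field` : if `0`, `1` are the only idempotents, `alg ρ A` is a field.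
-/

set_option autoImplicit false

namespace Cfsg.Agent.Omega.NOThreeL.Ns.Singer

open Module

universe u v

variable {K : Type u} [Group K] {Y : Type v} [AddCommGroup Y] [Module (ZMod 2) Y]
  (ρ : K →* End (ZMod 2) Y)

/-- `ρ(k) α ρ(k)⁻¹` -/
def cj (k : K) (α : End (ZMod 2) Y) : End (ZMod 2) Y := ρ k * α * ρ k⁻¹

theorem inv_mul_self (k : K) : ρ k⁻¹ * ρ k = 1 := by rw [← map_mul, inv_mul_cancel, map_one]

theorem mul_inv_self (k : K) : ρ k * ρ k⁻¹ = 1 := by rw [← map_mul, mul_inv_cancel, map_one]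

theorem inv_apply (k : K) (y : Y) : ρ k⁻¹ (ρ k y) = y := by
  rw [← Module.End.mul_apply, inv_mul_self]; rfl

theorem apply_inv (k : K) (y : Y) : ρ k (ρ k⁻¹ y) = y := by
  rw [← Module.End.mul_apply, mul_inv_self]; rfl

theorem apply_inj (k : K) {y z : Y} (h : ρ k y = ρ k z) : y = z := by
  rw [← inv_apply ρ k y, h, inv_apply]

theorem cj_apply (k : K) (α : End (ZMod 2) Y) (y : Y) : cj ρ k α (ρ k y) = ρ k (α y) := by
  unfold cj
  rw [Module.End.mul_apply, Module.End.mul_apply, inv_apply]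

theorem cj_mul (k : K) (α β : End (ZMod 2) Y) : cj ρ k (α * β) = cj ρ k α * cj ρ k β := by
  unfold cj
  calc ρ k * (α * β) * ρ k⁻¹ = ρ k * α * (1 : End (ZMod 2) Y) * β * ρ k⁻¹ := by rw [mul_one]; simp only [mul_assoc]
    _ = ρ k * α * (ρ k⁻¹ * ρ k) * β * ρ k⁻¹ := by rw [inv_mul_self]
    _ = _ := by simp only [mul_assoc]

theorem cj_add (k : K) (α β : End (ZMod 2) Y) : cj ρ k (α + β) = cj ρ k α + cj ρ k β := by
  unfold cj
  rw [mul_add, add_mul]

theorem cj_one (k : K) : cj ρ k 1 = 1 := by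
  unfold cj
  rw [mul_one, mul_inv_self]

theorem cj_zero (k : K) : cj ρ k 0 = 0 := by
  unfold cj
  rw [mul_zero, zero_mul]

theorem cj_one_left (α : End (ZMod 2) Y) : cj ρ 1 α = α := by
  unfold cj
  rw [inv_one, map_one, mul_one, one_mul]

theorem cj_cj (k l : K) (α : End (ZMod 2) Y) : cj ρ k (cj ρ l α) = cj ρ (k * l) α := by
  unfold cj
  rw [mul_inv_rev, map_mul, map_mul]
  simp only [mul_assoc]

theorem cj_inj (k : K) {α β : End (ZMod 2) Y} (h : cj ρ k α = cj ρ k β) : α = β := by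
  have h1 := congrArg (cj ρ k⁻¹) h
  rwa [cj_cj, cj_cj, inv_mul_cancel, cj_one_left, cj_one_left] at h1

theorem cj_eq_iff (k : K) (α : End (ZMod 2) Y) : cj ρ k α = α ↔ Commute (ρ k) α := by
  constructor
  · intro h
    show ρ k * α = α * ρ k
    conv_rhs => rw [← h]
    unfold cj
    rw [mul_assoc, inv_mul_self, mul_one]
  · intro h
    unfold cj
    rw [h.eq, mul_assoc, mul_inv_self, mul_one]

/-! ### the algebra -/

/-- the algebra generated by `ρ(A)` -/
noncomputable def alg (A : Subgroup K) : Subalgebra (ZMod 2) (End (ZMod 2) Y) :=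
  Algebra.adjoin (ZMod 2) (ρ '' (A : Set K))

theorem mem_alg {A : Subgroup K} {a : K} (ha : a ∈ A) : ρ a ∈ alg ρ A :=
  Algebra.subset_adjoin ⟨a, ha, rfl⟩

theorem commute_of {A : Subgroup K} {β α : End (ZMod 2) Y} (h : ∀ a ∈ A, Commute β (ρ a)) (hα : α ∈ alg ρ A) :
    Commute β α := by
  refine Algebra.commute_of_mem_adjoin_of_forall_mem_commute hα ?_
  rintro _ ⟨a, ha, rfl⟩
  exact h a ha

theorem commute_of_comm {A : Subgroup K} (h : ∀ a ∈ A, ∀ b ∈ A, a * b = b * a) {α β : End (ZMod 2) Y}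
    (hα : α ∈ alg ρ A) (hβ : β ∈ alg ρ A) : Commute α β := by
  refine commute_of ρ (fun b hb => (commute_of ρ (fun a ha => ?_) hα).symm) hβ
  show ρ b * ρ a = ρ a * ρ b
  rw [← map_mul, ← map_mul, h b hb a ha]

theorem cj_mem {A : Subgroup K} (hA : A.Normal) (k : K) {α : End (ZMod 2) Y} (hα : α ∈ alg ρ A) :
    cj ρ k α ∈ alg ρ A := by
  induction hα using Algebra.adjoin_induction with
  | mem x hx =>
    obtain ⟨a, ha, rfl⟩ := hx
    unfold cj
    rw [← map_mul, ← map_mul]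
    exact mem_alg ρ (hA.conj_mem a ha k)
  | algebraMap r =>
    unfold cj
    rw [← Algebra.commutes, mul_assoc, mul_inv_self, mul_one]
    exact Subalgebra.algebraMap_mem _ r
  | add x y _ _ hx hy => rw [cj_add]; exact add_mem hx hy
  | mul x y _ _ hx hy => rw [cj_mul]; exact mul_mem hx hy

theorem add_self_end (α : End (ZMod 2) Y) : α + α = 0 := by
  ext y
  exact ZModModule.add_self (α y)

theorem frob_add {α β : End (ZMod 2) Y} (h : Commute α β) (f : ℕ) :
    (α + β) ^ (2 ^ f) = α ^ (2 ^ f) + β ^ (2 ^ f) := by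
  induction f with
  | zero => simp
  | succ f ih =>
    rw [pow_succ, pow_mul, pow_mul, pow_mul, ih]
    have h1 : Commute (α ^ 2 ^ f) (β ^ 2 ^ f) := h.pow_pow _ _
    rw [pow_two, pow_two, pow_two, add_mul, mul_add, mul_add, h1.eq]
    have := add_self_end (β ^ 2 ^ f * α ^ 2 ^ f)
    calc _ = α ^ 2 ^ f * α ^ 2 ^ f + (β ^ 2 ^ f * α ^ 2 ^ f + β ^ 2 ^ f * α ^ 2 ^ f) + β ^ 2 ^ f * β ^ 2 ^ f := by abel
      _ = _ := by rw [this, add_zero]

/-- the exponent `φ(|K|)` -/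
noncomputable def ff (K : Type u) [Group K] : ℕ := Nat.totient (Nat.card K)

theorem ff_pos [Finite K] : 0 < ff K := Nat.totient_pos.2 Nat.card_pos

theorem pow_grp [Finite K] (hodd : Odd (Nat.card K)) (k : K) : k ^ (2 ^ ff K) = k := by
  have h1 : 2 ^ ff K ≡ 1 [MOD Nat.card K] := Nat.ModEq.pow_totient (Nat.coprime_two_left.2 hodd)
  have h2 : 2 ^ ff K ≡ 1 [MOD orderOf k] := h1.of_dvd (orderOf_dvd_natCard k)
  calc k ^ (2 ^ ff K) = k ^ 1 := pow_eq_pow_iff_modEq.2 h2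
    _ = k := pow_one k

variable {ρ}

theorem pow_eq [Finite K] (hodd : Odd (Nat.card K)) {A : Subgroup K} (h : ∀ a ∈ A, ∀ b ∈ A, a * b = b * a)
    {α : End (ZMod 2) Y} (hα : α ∈ alg ρ A) : α ^ (2 ^ ff K) = α := by
  have key : α ∈ alg ρ A → α ^ (2 ^ ff K) = α := by
    intro hα
    unfold alg at hα
    induction hα using Algebra.adjoin_induction with
    | mem x hx =>
      obtain ⟨a, ha, rfl⟩ := hx
      rw [← map_pow, pow_grp hodd]
    | algebraMap r =>
      rw [← map_pow]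
      congr 1
      have : ∀ r : ZMod 2, r ^ (2 ^ ff K) = r := by
        intro r
        induction ff K with
        | zero => simp
        | succ f ih => rw [pow_succ, pow_mul, ih]; exact ZMod.pow_card r
      exact this r
    | add x y hx hy h1 h2 => rw [frob_add (commute_of_comm ρ h hx hy), h1 hx, h2 hy]
    | mul x y hx hy h1 h2 => rw [(commute_of_comm ρ h hx hy).mul_pow, h1 hx, h2 hy]
  exact key hα

theorem idem [Finite K] (hodd : Odd (Nat.card K)) {A : Subgroup K} (h : ∀ a ∈ A, ∀ b ∈ A, a * b = b * a)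
    {α : End (ZMod 2) Y} (hα : α ∈ alg ρ A) :
    α ^ (2 ^ ff K - 1) * α ^ (2 ^ ff K - 1) = α ^ (2 ^ ff K - 1) ∧ α ^ (2 ^ ff K - 1) * α = α ∧
      α ^ (2 ^ ff K - 1) ∈ alg ρ A := by
  have h1 : 1 ≤ 2 ^ ff K := Nat.one_le_two_pow
  have h0 : 2 ≤ 2 ^ ff K := by
    calc 2 = 2 ^ 1 := rfl
      _ ≤ 2 ^ ff K := Nat.pow_le_pow_right (by norm_num) (ff_pos (K := K))
  have h2 : α ^ (2 ^ ff K - 1) * α = α := by
    rw [← pow_succ, Nat.sub_add_cancel h1, pow_eq hodd h hα]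
  refine ⟨?_, h2, pow_mem hα _⟩
  obtain ⟨m, hm⟩ : ∃ m, 2 ^ ff K - 1 = m + 1 := ⟨2 ^ ff K - 2, by omega⟩
  rw [hm] at h2 ⊢
  calc α ^ (m + 1) * α ^ (m + 1) = (α ^ (m + 1) * α) * α ^ m := by rw [mul_assoc, ← pow_succ']
    _ = α ^ (m + 1) := by rw [h2, ← pow_succ']

/-! ### minimal idempotents -/

/-- a minimal non-zero idempotent of `alg ρ A` -/
structure MinId (ρ : K →* End (ZMod 2) Y) (A : Subgroup K) (e : End (ZMod 2) Y) : Prop where
  mem : e ∈ alg ρ A
  idem : e * e = e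
  ne : e ≠ 0
  min : ∀ e' ∈ alg ρ A, e' * e' = e' → e * e' = 0 ∨ e * e' = e

theorem exists_min [Finite Y] [Nontrivial Y] {A : Subgroup K} (h : ∀ a ∈ A, ∀ b ∈ A, a * b = b * a) :
    ∃ e, MinId ρ A e := by
  classical
  have hne : ∃ n, ∃ e ∈ alg ρ A, e * e = e ∧ e ≠ 0 ∧ Nat.card (LinearMap.range e) = n :=
    ⟨_, 1, one_mem _, one_mul 1, one_ne_zero, rfl⟩
  obtain ⟨e, h1, h2, h3, h4⟩ := Nat.find_spec hne
  refine ⟨e, h1, h2, h3, fun e' h5 h6 => ?_⟩
  by_contra hcon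
  push Not at hcon
  obtain ⟨hc1, hc2⟩ := hcon
  have hc : Commute e e' := commute_of_comm ρ h h1 h5
  have h7 : e * e' * (e * e') = e * e' := by
    calc e * e' * (e * e') = e * (e' * e) * e' := by simp only [mul_assoc]
      _ = e * e * (e' * e') := by rw [← hc.eq]; simp only [mul_assoc]
      _ = e * e' := by rw [h2, h6]
  have h8 : LinearMap.range (e * e') ≤ LinearMap.range e := by
    rintro _ ⟨y, rfl⟩
    exact ⟨e' y, rfl⟩
  have h9 : Nat.find hne ≤ Nat.card (LinearMap.range (e * e')) :=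
    Nat.find_min' hne ⟨e * e', mul_mem h1 h5, h7, hc1, rfl⟩
  have h10 : LinearMap.range (e * e') = LinearMap.range e := by
    refine le_antisymm h8 ?_
    have h11 : (LinearMap.range (e * e') : Set Y) = (LinearMap.range e : Set Y) := by
      refine Set.eq_of_subset_of_ncard_le h8 ?_ (Set.toFinite _)
      rw [← h4] at h9
      exact h9
    exact h11.symm.le
  apply hc2
  ext y
  have h12 : e y ∈ LinearMap.range (e * e') := by
    rw [h10]
    exact ⟨y, rfl⟩
  obtain ⟨w, hw⟩ := h12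
  rw [hc.eq]
  show e' (e y) = e y
  rw [← hw]
  show (e' * (e * e')) w = (e * e') w
  rw [← mul_assoc, ← hc.eq, mul_assoc, h6]

namespace MinId

variable {A : Subgroup K} {e : End (ZMod 2) Y}

theorem conj (hA : A.Normal) (h : MinId ρ A e) (k : K) : MinId ρ A (cj ρ k e) where
  mem := cj_mem ρ hA k h.mem
  idem := by rw [← cj_mul, h.idem]
  ne := fun h0 => h.ne (cj_inj ρ k (h0.trans (cj_zero ρ k).symm))
  min := fun e' h1 h2 => by
    have h3 := h.min (cj ρ k⁻¹ e') (cj_mem ρ hA _ h1) (by rw [← cj_mul, h2])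
    have h4 : cj ρ k e * e' = cj ρ k (e * cj ρ k⁻¹ e') := by
      rw [cj_mul, cj_cj, mul_inv_cancel, cj_one_left]
    rw [h4]
    rcases h3 with h3 | h3
    · exact Or.inl (by rw [h3, cj_zero])
    · exact Or.inr (by rw [h3])

theorem eq_or (hc : ∀ a ∈ A, ∀ b ∈ A, a * b = b * a) {e' : End (ZMod 2) Y} (h : MinId ρ A e) (h' : MinId ρ A e') :
    e = e' ∨ e * e' = 0 := by
  rcases h.min e' h'.mem h'.idem with h1 | h1
  · exact Or.inr h1
  · rcases h'.min e h.mem h.idem with h2 | h2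
    · right
      rw [(commute_of_comm ρ hc h.mem h'.mem).eq, h2]
    · left
      rw [← h1, (commute_of_comm ρ hc h.mem h'.mem).eq, h2]

end MinId

/-- `Y` is irreducible -/
def Irr (ρ : K →* End (ZMod 2) Y) : Prop :=
  ∀ W : Submodule (ZMod 2) Y, (∀ k : K, ∀ w ∈ W, ρ k w ∈ W) → W = ⊥ ∨ W = ⊤

theorem MinId.eq_one {A : Subgroup K} {e : End (ZMod 2) Y} (h : MinId ρ A e) (hI : Irr ρ)
    (hk : ∀ k, cj ρ k e = e) : e = 1 := by
  have h1 : LinearMap.range e = ⊥ ∨ LinearMap.range e = ⊤ := by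
    refine hI _ fun k w hw => ?_
    obtain ⟨y, rfl⟩ := hw
    refine ⟨ρ k y, ?_⟩
    conv_lhs => rw [← hk k]
    rw [cj_apply]
  rcases h1 with h1 | h1
  · exact absurd (LinearMap.range_eq_bot.1 h1) h.ne
  · ext y
    obtain ⟨z, rfl⟩ := LinearMap.range_eq_top.1 h1 y
    show (e * e) z = e z
    rw [h.idem]

/-- if `1` is a minimal idempotent, `alg ρ A` is a field -/
theorem exists_inv [Finite K] (hodd : Odd (Nat.card K)) {A : Subgroup K} (hc : ∀ a ∈ A, ∀ b ∈ A, a * b = b * a)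
    (h : MinId ρ A 1) {α : End (ZMod 2) Y} (hα : α ∈ alg ρ A) (h0 : α ≠ 0) : ∃ β ∈ alg ρ A, α * β = 1 := by
  obtain ⟨h1, h2, h3⟩ := idem hodd hc hα
  have h4 : 2 ≤ 2 ^ ff K := by
    calc 2 = 2 ^ 1 := rfl
      _ ≤ 2 ^ ff K := Nat.pow_le_pow_right (by norm_num) (ff_pos (K := K))
  rcases h.min _ h3 h1 with h5 | h5
  · rw [one_mul] at h5
    rw [h5, zero_mul] at h2
    exact absurd h2.symm h0
  · rw [one_mul] at h5
    refine ⟨α ^ (2 ^ ff K - 2), pow_mem hα _, ?_⟩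
    rw [← pow_succ', show 2 ^ ff K - 2 + 1 = 2 ^ ff K - 1 by omega, h5]

theorem exists_field [Finite K] [Finite Y] [Nontrivial Y] (hodd : Odd (Nat.card K)) {A : Subgroup K}
    (hc : ∀ a ∈ A, ∀ b ∈ A, a * b = b * a) (h : MinId ρ A 1) :
    ∃ (F : Type v) (_ : Field F) (_ : Finite F) (φ : F →+* End (ZMod 2) Y), ∀ α, α ∈ alg ρ A ↔ ∃ x, φ x = α := by
  have hfin : Finite (End (ZMod 2) Y) := Finite.of_injective (fun f : End (ZMod 2) Y => (f : Y → Y)) DFunLike.coe_injective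
  have h1 : IsField (alg ρ A) := by
    refine ⟨⟨0, 1, zero_ne_one⟩, fun x y => Subtype.ext (commute_of_comm ρ hc x.2 y.2).eq, fun {x} hx => ?_⟩
    obtain ⟨β, hβ, h2⟩ := exists_inv hodd hc h x.2 (fun h3 => hx (Subtype.ext h3))
    exact ⟨⟨β, hβ⟩, Subtype.ext h2⟩
  refine ⟨alg ρ A, h1.toField, inferInstance, (alg ρ A).val.toRingHom, fun α => ?_⟩
  constructor
  · intro hα
    exact ⟨⟨α, hα⟩, rfl⟩
  · rintro ⟨x, rfl⟩
    exact x.2

end Cfsg.Agent.Omega.NOThreeL.Ns.Singer
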