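import Cfsg.Agent.Omega.NOThreeL.Ns.Singer.Alg

/-!
# LEMMA SINGER (#21702, helper369), part 2: abelian normal subgroups are centralised by `T`

`Sing ρ T R D` : `Y = R ⊕ D`, `T` abelian, regular on `R#`, trivial on `D`.

* `Sing.commute` : `K` of odd order, irreducible on `Y`, `R ≠ Y`, `|R| ≥ 8`, `|Y| ≤ |R|²`: `T` centralises every abelian
  normal subgroup.
-/

set_option autoImplicit false

namespace Cfsg.Agent.Omega.NOThreeL.Ns.Singer

open Module

universe u v

variable {K : Type u} [Group K] {Y : Type v} [AddCommGroup Y] [Module (ZMod 2) Y]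
  {ρ : K →* End (ZMod 2) Y}

theorem num {q : ℕ} (h : 8 ≤ q) : q ^ 2 < 2 ^ (q - 1) := by
  induction q, h using Nat.le_induction with
  | base => norm_num
  | succ q hq ih =>
    have h1 : 2 ^ (q + 1 - 1) = 2 * 2 ^ (q - 1) := by
      rw [← pow_succ']
      congr 1
      omega
    rw [h1]
    nlinarith

/-- `Y = R ⊕ D`, `T` abelian, regular on `R#`, trivial on `D`. -/
structure Sing (ρ : K →* End (ZMod 2) Y) (T : Subgroup K) (R D : Submodule (ZMod 2) Y) : Prop where
  com : ∀ s ∈ T, ∀ t ∈ T, s * t = t * s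
  fix : ∀ t ∈ T, ∀ d ∈ D, ρ t d = d
  inv : ∀ t ∈ T, ∀ r ∈ R, ρ t r ∈ R
  trans : ∀ r ∈ R, r ≠ 0 → ∀ r' ∈ R, r' ≠ 0 → ∃ t ∈ T, ρ t r = r'
  free : ∀ t ∈ T, t ≠ 1 → ∀ r ∈ R, ρ t r = r → r = 0
  compl : IsCompl R D

namespace Sing

variable {T : Subgroup K} {R D : Submodule (ZMod 2) Y}

theorem exists_add (S : Sing ρ T R D) (y : Y) : ∃ r ∈ R, ∃ d ∈ D, r + d = y := by
  have h : y ∈ R ⊔ D := by rw [S.compl.sup_eq_top]; trivial
  exact Submodule.mem_sup.1 h

theorem eq_zero (S : Sing ρ T R D) {y : Y} (h1 : y ∈ R) (h2 : y ∈ D) : y = 0 :=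
  (Submodule.disjoint_def.1 S.compl.disjoint) y h1 h2

theorem sub_mem (S : Sing ρ T R D) {t : K} (ht : t ∈ T) (y : Y) : ρ t y - y ∈ R := by
  obtain ⟨r, hr, d, hd, rfl⟩ := S.exists_add y
  rw [map_add, S.fix t ht d hd]
  have : ρ t r + d - (r + d) = ρ t r - r := by abel
  rw [this]
  exact R.sub_mem (S.inv t ht r hr) hr

theorem mem_D (S : Sing ρ T R D) {t : K} (ht : t ∈ T) (h1 : t ≠ 1) {y : Y} (h : ρ t y = y) : y ∈ D := by
  obtain ⟨r, hr, d, hd, rfl⟩ := S.exists_add y
  rw [map_add, S.fix t ht d hd, add_left_inj] at h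
  rw [S.free t ht h1 r hr h, zero_add]
  exact hd

theorem exists_sub [Finite Y] (S : Sing ρ T R D) {t : K} (ht : t ∈ T) (h1 : t ≠ 1) {r : Y} (hr : r ∈ R) :
    ∃ r' ∈ R, ρ t r' - r' = r := by
  let f : R → R := fun r => ⟨ρ t r - r, S.sub_mem ht r⟩
  have hf : Function.Injective f := by
    intro a b hab
    have h2 : ρ t a - a = ρ t b - b := congrArg Subtype.val hab
    have h3 : ρ t ((a : Y) - b) = (a : Y) - b := by
      rw [map_sub]
      have : ρ t (a : Y) = ρ t b - b + a := by rw [← h2]; abel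
      rw [this]
      abel
    exact Subtype.ext (sub_eq_zero.1 (S.free t ht h1 _ (R.sub_mem a.2 b.2) h3))
  obtain ⟨r', h2⟩ := (Finite.injective_iff_surjective.1 hf) ⟨r, hr⟩
  exact ⟨r', r'.2, congrArg Subtype.val h2⟩

theorem pres_R [Finite Y] (S : Sing ρ T R D) {t : K} (ht : t ∈ T) (h1 : t ≠ 1) {α : End (ZMod 2) Y}
    (hα : Commute (ρ t) α) {r : Y} (hr : r ∈ R) : α r ∈ R := by
  obtain ⟨r', hr', h2⟩ := S.exists_sub ht h1 hr
  have h3 : ρ t (α r') = α (ρ t r') := LinearMap.congr_fun hα.eq r'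
  rw [← h2, map_sub, ← h3]
  exact S.sub_mem ht _

theorem pres_D (S : Sing ρ T R D) {t : K} (ht : t ∈ T) (h1 : t ≠ 1) {α : End (ZMod 2) Y}
    (hα : Commute (ρ t) α) {d : Y} (hd : d ∈ D) : α d ∈ D := by
  have h3 : ρ t (α d) = α (ρ t d) := LinearMap.congr_fun hα.eq d
  exact S.mem_D ht h1 (by rw [h3, S.fix t ht d hd])

theorem card_T [Finite Y] (S : Sing ρ T R D) (hR : R ≠ ⊥) : Nat.card T + 1 = Nat.card R := by
  obtain ⟨r, hr, h0⟩ := R.ne_bot_iff.1 hR
  have h1 : Nat.card T = Nat.card {x : R // x ≠ 0} := by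
    refine Nat.card_congr (Equiv.ofBijective (fun t => ⟨⟨ρ t r, S.inv t t.2 r hr⟩, fun h => h0 ?_⟩) ⟨?_, ?_⟩)
    · have h2 : ρ (t : K) r = 0 := congrArg Subtype.val h
      rw [← map_zero (ρ (t : K))] at h2
      exact apply_inj ρ t h2
    · intro s t hst
      have h2 : ρ (s : K) r = ρ (t : K) r := congrArg (fun x => ((x : {x : R // x ≠ 0}) : R).1) hst
      have h3 : ρ ((t : K)⁻¹ * s) r = r := by
        rw [map_mul, Module.End.mul_apply, h2, inv_apply]
      by_contra hne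
      refine h0 (S.free _ (mul_mem (inv_mem t.2) s.2) (fun h => hne ?_) r hr h3)
      exact (Subtype.ext (inv_mul_eq_one.1 h)).symm
    · rintro ⟨⟨x, hx⟩, h2⟩
      obtain ⟨t, ht, h3⟩ := S.trans r hr h0 x hx (fun h => h2 (Subtype.ext h))
      exact ⟨⟨t, ht⟩, Subtype.ext (Subtype.ext h3)⟩
  rw [h1]
  classical
  have : Fintype R := Fintype.ofFinite R
  rw [Nat.card_eq_fintype_card, Nat.card_eq_fintype_card, Fintype.card_subtype_compl, Fintype.card_subtype_eq]
  have : 0 < Fintype.card R := Fintype.card_pos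
  omega

/-! ### the field case -/

theorem field_case [Finite K] [Finite Y] (S : Sing ρ T R D) (hodd : Odd (Nat.card K)) {A : Subgroup K}
    (hA : A.Normal) (hc : ∀ a ∈ A, ∀ b ∈ A, a * b = b * a) (h : MinId ρ A 1) (hD : D ≠ ⊥)
    (hcard : Nat.card Y ≤ Nat.card R ^ 2) (h8 : 8 ≤ Nat.card R) {t : K} (ht : t ∈ T) {α : End (ZMod 2) Y}
    (hα : α ∈ alg ρ A) : Commute (ρ t) α := by
  obtain ⟨v, hv, hv0⟩ := D.ne_bot_iff.1 hD
  have : Nontrivial Y := ⟨⟨v, 0, hv0⟩⟩
  have inj : ∀ β ∈ alg ρ A, β v = 0 → β = 0 := by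
    intro β hβ h1
    by_contra hne
    obtain ⟨γ, hγ, h2⟩ := exists_inv hodd hc h hβ hne
    have h3 : (γ * β) v = v := by rw [(commute_of_comm ρ hc hγ hβ).eq, h2]; rfl
    rw [Module.End.mul_apply, h1, map_zero] at h3
    exact hv0 h3.symm
  by_cases hs : ∃ s ∈ T, s ≠ 1 ∧ ∀ α ∈ alg ρ A, Commute (ρ s) α
  · obtain ⟨s, hsT, hs1, hsc⟩ := hs
    have h1 : cj ρ t α v = α v := by
      unfold cj
      rw [Module.End.mul_apply, Module.End.mul_apply, S.fix _ (inv_mem ht) v hv,
        S.fix t ht _ (S.pres_D hsT hs1 (hsc α hα) hv)]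
    have h2 : cj ρ t α - α = 0 := inj _ (_root_.sub_mem (cj_mem ρ hA t hα) hα) (by rw [LinearMap.sub_apply, h1, sub_self])
    exact (cj_eq_iff ρ t α).1 (sub_eq_zero.1 h2)
  · exfalso
    push Not at hs
    obtain ⟨F, _, _, φ, hφ⟩ := exists_field hodd hc h
    have hinj : Function.Injective φ := φ.injective
    have hσ : ∀ s : T, ∃ σ : F →+* F, ∀ x, φ (σ x) = cj ρ s (φ x) := by
      intro s
      have h1 : ∀ x : F, ∃ y : F, φ y = cj ρ s (φ x) := fun x =>
        (hφ _).1 (cj_mem ρ hA s ((hφ _).2 ⟨x, rfl⟩))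
      choose f hf using h1
      refine ⟨{ toFun := f, map_one' := hinj ?_, map_mul' := fun x y => hinj ?_, map_zero' := hinj ?_,
                map_add' := fun x y => hinj ?_ }, hf⟩
      · rw [hf, map_one, cj_one]
      · rw [hf, map_mul, cj_mul, map_mul, hf, hf]
      · rw [hf, map_zero, cj_zero]
      · rw [hf, map_add, cj_add, map_add, hf, hf]
    choose σ hσ using hσ
    have hσinj : Function.Injective σ := by
      intro s s' hss
      by_contra hne
      obtain ⟨β, hβ, h2⟩ := hs ((s' : K)⁻¹ * s) (mul_mem (inv_mem s'.2) s.2)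
        (fun h => hne (Subtype.ext (inv_mul_eq_one.1 h)).symm)
      apply h2
      rw [← cj_eq_iff]
      obtain ⟨x, rfl⟩ := (hφ β).1 hβ
      have h3 : cj ρ s (φ x) = cj ρ s' (φ x) := by rw [← hσ, ← hσ, hss]
      have h4 := congrArg (cj ρ (s' : K)⁻¹) h3
      rwa [cj_cj, cj_cj, inv_mul_cancel, cj_one_left] at h4
    have hchar : (2 : F) = 0 := by
      apply hinj
      rw [map_zero]
      have : (2 : F) = 1 + 1 := by norm_num
      rw [this, map_add, add_self_end]
    have : CharP F 2 := CharTwo.of_one_ne_zero_of_two_eq_zero one_ne_zero hchar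
    let _ : Algebra (ZMod 2) F := ZMod.algebra F 2
    let τ : T → (F →ₐ[ZMod 2] F) := fun s =>
      { σ s with
        commutes' := fun r => RingHom.congr_fun (RingHom.ext_zmod ((σ s).comp (algebraMap (ZMod 2) F)) (algebraMap (ZMod 2) F)) r }
    have hτ : Function.Injective τ := by
      intro s s' hss
      apply hσinj
      ext x
      exact DFunLike.congr_fun hss x
    classical
    have h5 : Nat.card T ≤ finrank (ZMod 2) F := by
      calc Nat.card T ≤ Nat.card (F →ₐ[ZMod 2] F) := Nat.card_le_card_of_injective τ hτ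
        _ ≤ _ := by rw [Nat.card_eq_fintype_card]; exact AlgHom.card_le
    have h6 : Nat.card F ≤ Nat.card Y := by
      refine Nat.card_le_card_of_injective (fun x : F => φ x v) fun x y hxy => hinj ?_
      have h7 : (φ x - φ y) v = 0 := by rw [LinearMap.sub_apply]; exact sub_eq_zero.2 hxy
      exact sub_eq_zero.1 (inj _ (_root_.sub_mem ((hφ _).2 ⟨x, rfl⟩) ((hφ _).2 ⟨y, rfl⟩)) h7)
    have h7 : Nat.card F = 2 ^ finrank (ZMod 2) F := by
      rw [Module.natCard_eq_pow_finrank (K := ZMod 2) (V := F)]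
      simp
    have hR : R ≠ ⊥ := by
      rintro rfl
      rw [Nat.card_unique] at h8
      omega
    have h8' := S.card_T hR
    have h9 : 2 ^ (Nat.card R - 1) ≤ Nat.card R ^ 2 := by
      calc 2 ^ (Nat.card R - 1) ≤ 2 ^ finrank (ZMod 2) F := Nat.pow_le_pow_right (by norm_num) (by omega)
        _ ≤ _ := by rw [← h7]; exact h6.trans hcard
    exact absurd (num h8) (not_lt.2 h9)

end Sing

/-! ### the block case -/

theorem idem_eq_one {s : End (ZMod 2) Y} (hI : Irr ρ) (h1 : s * s = s) (h0 : s ≠ 0) (hk : ∀ k, cj ρ k s = s) : s = 1 := by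
  have h1' : LinearMap.range s = ⊥ ∨ LinearMap.range s = ⊤ := by
    refine hI _ fun k w hw => ?_
    obtain ⟨y, rfl⟩ := hw
    refine ⟨ρ k y, ?_⟩
    conv_lhs => rw [← hk k]
    rw [cj_apply]
  rcases h1' with h2 | h2
  · exact absurd (LinearMap.range_eq_bot.1 h2) h0
  · ext y
    obtain ⟨z, rfl⟩ := LinearMap.range_eq_top.1 h2 y
    show (s * s) z = s z
    rw [h1]

theorem cj_sum (k : K) {ι : Type*} (I : Finset ι) (f : ι → End (ZMod 2) Y) :
    cj ρ k (∑ i ∈ I, f i) = ∑ i ∈ I, cj ρ k (f i) := by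
  unfold cj
  rw [Finset.mul_sum, Finset.sum_mul]

theorem Sing.block_case [Finite K] [Finite Y] {T : Subgroup K} {R D : Submodule (ZMod 2) Y} (S : Sing ρ T R D)
    (hodd : Odd (Nat.card K)) {A : Subgroup K} (hA : A.Normal) (hc : ∀ a ∈ A, ∀ b ∈ A, a * b = b * a)
    {e : End (ZMod 2) Y} (h : MinId ρ A e) (hk : ∃ k, cj ρ k e ≠ e) (hI : Irr ρ)
    (hcard : Nat.card Y ≤ Nat.card R ^ 2) (h8 : 8 ≤ Nat.card R) : False := by
  classical
  have : Fintype K := Fintype.ofFinite K
  set Om : Finset (End (ZMod 2) Y) := Finset.univ.image (fun k => cj ρ k e) with hOm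
  have memOm : ∀ k, cj ρ k e ∈ Om := fun k => Finset.mem_image_of_mem _ (Finset.mem_univ k)
  have hmin : ∀ ε ∈ Om, MinId ρ A ε := by
    intro ε hε
    obtain ⟨k, -, rfl⟩ := Finset.mem_image.1 hε
    exact h.conj hA k
  have hcj : ∀ k, ∀ ε ∈ Om, cj ρ k ε ∈ Om := by
    intro k ε hε
    obtain ⟨l, -, rfl⟩ := Finset.mem_image.1 hε
    rw [cj_cj]
    exact memOm _
  have horth : ∀ ε ∈ Om, ∀ ε' ∈ Om, ε ≠ ε' → ε * ε' = 0 := fun ε hε ε' hε' hne =>
    ((hmin ε hε).eq_or hc (hmin ε' hε')).resolve_left hne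
  have hsum : ∀ O ⊆ Om, ∀ ε ∈ O, (∑ x ∈ O, x) * ε = ε := by
    intro O hO ε hε
    rw [Finset.sum_mul, Finset.sum_eq_single ε]
    · exact (hmin ε (hO hε)).idem
    · intro b hb hne
      exact horth b (hO hb) ε (hO hε) hne
    · intro h1
      exact absurd hε h1
  have hsum0 : ∀ O ⊆ Om, ∀ ε ∈ Om, ε ∉ O → (∑ x ∈ O, x) * ε = 0 := by
    intro O hO ε hε hn
    rw [Finset.sum_mul]
    refine Finset.sum_eq_zero fun x hx => horth x (hO hx) ε hε ?_
    rintro rfl
    exact hn hx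
  have hinvsum : ∀ O : Finset (End (ZMod 2) Y), ∀ k, (∀ ε ∈ O, cj ρ k ε ∈ O) → cj ρ k (∑ x ∈ O, x) = ∑ x ∈ O, x := by
    intro O k hO
    rw [cj_sum]
    refine Finset.sum_nbij (fun x => cj ρ k x) hO (fun x _ y _ hxy => cj_inj ρ k hxy) ?_ (fun x _ => rfl)
    have h1 : O.image (fun x => cj ρ k x) = O := by
      refine Finset.eq_of_subset_of_card_le (fun x hx => ?_) ?_
      · obtain ⟨y, hy, rfl⟩ := Finset.mem_image.1 hx
        exact hO y hy
      · rw [Finset.card_image_of_injective _ (fun x y hxy => cj_inj ρ k hxy)]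
    intro x hx
    have h2 : x ∈ O.image (fun x => cj ρ k x) := by rw [h1]; exact hx
    obtain ⟨y, hy, rfl⟩ := Finset.mem_image.1 h2
    exact ⟨y, hy, rfl⟩
  have heOm : e ∈ Om := by
    have := memOm 1
    rwa [cj_one_left] at this
  have hone : ∑ x ∈ Om, x = 1 := by
    refine idem_eq_one hI ?_ ?_ (fun k => hinvsum Om k (hcj k))
    · rw [Finset.mul_sum]
      exact Finset.sum_congr rfl fun x hx => hsum Om (Finset.Subset.refl _) x hx
    · intro h0
      have := hsum Om (Finset.Subset.refl _) e heOm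
      rw [h0, zero_mul] at this
      exact h.ne this.symm
  -- `|Om|` is odd
  have hcardOdd : Odd Om.card := by
    let _ : MulAction K (End (ZMod 2) Y) :=
      { smul := fun k α => cj ρ k α
        one_smul := cj_one_left ρ
        mul_smul := fun k l α => (cj_cj ρ k l α).symm }
    have h1 : (MulAction.orbit K e : Set (End (ZMod 2) Y)) = (Om : Set _) := by
      ext x
      rw [Finset.mem_coe, Finset.mem_image]
      constructor
      · rintro ⟨k, rfl⟩
        exact ⟨k, Finset.mem_univ _, rfl⟩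
      · rintro ⟨k, -, rfl⟩
        exact ⟨k, rfl⟩
    have h2 : (MulAction.stabilizer K e).index = Om.card := by
      rw [MulAction.index_stabilizer, h1, Set.ncard_coe_finset]
    rw [← h2]
    exact hodd.of_dvd_nat (Subgroup.index_dvd_card _)
  have htwo : 2 < Om.card := by
    obtain ⟨k, hk⟩ := hk
    have h1 : 1 < Om.card := Finset.one_lt_card.2 ⟨_, memOm k, e, heOm, hk⟩
    obtain ⟨m, hm⟩ := hcardOdd
    omega
  -- `|range ε| < |R|`
  have hrange : ∀ ε ∈ Om, Nat.card (LinearMap.range ε) = Nat.card (LinearMap.range e) := by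
    intro ε hε
    obtain ⟨k, -, rfl⟩ := Finset.mem_image.1 hε
    have hm : ∀ x : LinearMap.range e, ρ k x ∈ LinearMap.range (cj ρ k e) := by
      rintro ⟨_, y, rfl⟩
      exact ⟨ρ k y, cj_apply ρ k e y⟩
    let f : LinearMap.range e → LinearMap.range (cj ρ k e) := fun x => ⟨ρ k x, hm x⟩
    have hf : Function.Bijective f := by
      constructor
      · intro x y hxy
        exact Subtype.ext (apply_inj ρ k (congrArg Subtype.val hxy))
      · rintro ⟨_, y, rfl⟩
        exact ⟨⟨e (ρ k⁻¹ y), ⟨_, rfl⟩⟩, rfl⟩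
    exact (Nat.card_congr (Equiv.ofBijective f hf)).symm
  have hlt : ∀ ε ∈ Om, Nat.card (LinearMap.range ε) < Nat.card R := by
    obtain ⟨a, ha, b, hb, c, hcc, hab, hac, hbc⟩ := Finset.two_lt_card.1 htwo
    intro ε hε
    by_contra hcon
    push Not at hcon
    rw [hrange ε hε] at hcon
    have hmul : Nat.card (LinearMap.range a) * Nat.card (LinearMap.range b) * Nat.card (LinearMap.range c) ≤ Nat.card Y := by
      rw [← Nat.card_prod, ← Nat.card_prod]
      refine Nat.card_le_card_of_injective (fun p : (LinearMap.range a × LinearMap.range b) × LinearMap.range c =>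
        (p.1.1 : Y) + p.1.2 + p.2) ?_
      have val : ∀ x ∈ Om, ∀ y : LinearMap.range x, x y = y := by
        rintro x hx ⟨_, w, rfl⟩
        show (x * x) w = x w
        rw [(hmin x hx).idem]
      have val0 : ∀ x ∈ Om, ∀ y ∈ Om, x ≠ y → ∀ w : LinearMap.range y, x w = 0 := by
        rintro x hx y hy hne ⟨_, w, rfl⟩
        show (x * y) w = 0
        rw [horth x hx y hy hne]; rfl
      rintro ⟨⟨x1, x2⟩, x3⟩ ⟨⟨y1, y2⟩, y3⟩ hxy
      have hxy' : (x1 : Y) + x2 + x3 = (y1 : Y) + y2 + y3 := hxy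
      have e1 := congrArg a hxy'
      have e2 := congrArg b hxy'
      have e3 := congrArg c hxy'
      simp only [map_add] at e1 e2 e3
      rw [val a ha, val0 a ha b hb hab, val0 a ha c hcc hac, val a ha, val0 a ha b hb hab, val0 a ha c hcc hac,
        add_zero, add_zero, add_zero, add_zero] at e1
      rw [val b hb, val0 b hb a ha hab.symm, val0 b hb c hcc hbc, val b hb, val0 b hb a ha hab.symm,
        val0 b hb c hcc hbc, zero_add, zero_add, add_zero, add_zero] at e2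
      rw [val c hcc, val0 c hcc a ha hac.symm, val0 c hcc b hb hbc.symm, val c hcc, val0 c hcc a ha hac.symm,
        val0 c hcc b hb hbc.symm, add_zero, zero_add, zero_add] at e3
      rw [Subtype.ext e1, Subtype.ext e2, Subtype.ext e3]
    rw [hrange a ha, hrange b hb, hrange c hcc] at hmul
    have h1 : Nat.card R * Nat.card R * Nat.card R ≤ Nat.card R ^ 2 :=
      (Nat.mul_le_mul (Nat.mul_le_mul hcon hcon) hcon).trans (hmul.trans hcard)
    nlinarith
  -- (i) no `t ∈ T#` commutes with all `ε ∈ Om`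
  have hR : R ≠ ⊥ := by
    rintro rfl
    rw [Nat.card_unique] at h8
    omega
  have hi : ∀ t ∈ T, (∀ ε ∈ Om, cj ρ t ε = ε) → t = 1 := by
    intro t ht htc
    by_contra ht1
    have hp : ∀ ε ∈ Om, ∀ r ∈ R, ε r ∈ R := fun ε hε r hr =>
      S.pres_R ht ht1 ((cj_eq_iff ρ t ε).1 (htc ε hε)) hr
    obtain ⟨r, hr, hr0⟩ := R.ne_bot_iff.1 hR
    obtain ⟨ε, hε, h1⟩ : ∃ ε ∈ Om, ε r ≠ 0 := by
      by_contra hcon
      push Not at hcon
      apply hr0
      have h2 : (∑ x ∈ Om, x) r = 0 := by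
        rw [LinearMap.sum_apply]
        exact Finset.sum_eq_zero hcon
      rw [hone] at h2
      exact h2
    have hidem : ∀ y, ε (ε y) = ε y := fun y => LinearMap.congr_fun (hmin ε hε).idem y
    obtain ⟨r', hr', h2⟩ : ∃ r' ∈ R, ε r' ≠ r' := by
      by_contra hcon
      push Not at hcon
      have h3 : Nat.card R ≤ Nat.card (LinearMap.range ε) :=
        Nat.card_le_card_of_injective (fun x : R => (⟨x, ⟨x, hcon x x.2⟩⟩ : LinearMap.range ε))
          (fun x y hxy => Subtype.ext (congrArg (fun z : LinearMap.range ε => (z : Y)) hxy))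
      exact absurd (hlt ε hε) (not_lt.2 h3)
    have ha : ε r ∈ R := hp ε hε r hr
    have hb : r' - ε r' ∈ R := R.sub_mem hr' (hp ε hε r' hr')
    have hab : ε (ε r + (r' - ε r')) = ε r := by
      rw [map_add, map_sub, hidem, hidem, sub_self, add_zero]
    obtain ⟨s, hs, h3⟩ := S.trans (ε r) ha h1 (ε r + (r' - ε r')) (R.add_mem ha hb) (by
      intro h0
      rw [h0, map_zero] at hab
      exact h1 hab.symm)
    have h4 : cj ρ s ε (ε r + (r' - ε r')) = ε r + (r' - ε r') := by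
      rw [← h3, cj_apply, hidem]
    have h5 : cj ρ s ε = ε := by
      by_contra hne
      have h6 := horth ε hε _ (hcj s ε hε) (Ne.symm hne)
      have h7 : (ε * cj ρ s ε) (ε r + (r' - ε r')) = ε r := by
        rw [Module.End.mul_apply, h4, hab]
      rw [h6] at h7
      exact h1 h7.symm
    rw [h5, hab] at h4
    apply h2
    have h6 : r' - ε r' = 0 := by
      have : ε r + 0 = ε r + (r' - ε r') := by rw [add_zero]; exact h4
      exact (add_left_cancel this).symm
    exact (sub_eq_zero.1 h6).symm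
  -- an element which is moved
  have hcT := S.card_T hR
  obtain ⟨t1, ht1, ht11⟩ : ∃ t ∈ T, t ≠ 1 := by
    by_contra hcon
    push Not at hcon
    have : T = ⊥ := (Subgroup.eq_bot_iff_forall T).2 hcon
    rw [this, Subgroup.card_bot] at hcT
    omega
  obtain ⟨ε0, hε0, hmv⟩ : ∃ ε ∈ Om, cj ρ t1 ε ≠ ε := by
    by_contra hcon
    push Not at hcon
    exact ht11 (hi t1 ht1 hcon)
  -- `ρ t ε = ε` implies `cj t ε = ε`
  have hfixc : ∀ t, ∀ ε ∈ Om, ρ t * ε = ε → cj ρ t ε = ε := by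
    intro t ε hε h1
    by_contra hne
    have h2 := horth _ (hcj t ε hε) ε hε hne
    have h3 : ρ t⁻¹ * ε = ε := by
      conv_lhs => rw [← h1]
      rw [← mul_assoc, inv_mul_self, one_mul]
    have h4 : cj ρ t ε * ε = ε := by
      unfold cj
      rw [mul_assoc, h3, mul_assoc, (hmin ε hε).idem, h1]
    exact (hmin ε hε).ne (by rw [← h4, h2])
  -- the orbit of `ε0`
  have : Fintype T := Fintype.ofFinite T
  set O : Finset (End (ZMod 2) Y) := Finset.univ.image (fun t : T => cj ρ t ε0) with hO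
  have hOO : O ⊆ Om := by
    intro x hx
    obtain ⟨t, -, rfl⟩ := Finset.mem_image.1 hx
    exact hcj t ε0 hε0
  have h0O : ε0 ∈ O := Finset.mem_image.2 ⟨1, Finset.mem_univ _, cj_one_left ρ ε0⟩
  have hOinv : ∀ t ∈ T, ∀ ε ∈ O, cj ρ t ε ∈ O := by
    intro t ht ε hε
    obtain ⟨s, -, rfl⟩ := Finset.mem_image.1 hε
    rw [cj_cj]
    exact Finset.mem_image.2 ⟨⟨t, ht⟩ * s, Finset.mem_univ _, rfl⟩
  set eO : End (ZMod 2) Y := ∑ x ∈ O, x with heO
  have heOc : ∀ t ∈ T, cj ρ t eO = eO := fun t ht => hinvsum O t (hOinv t ht)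
  have heOcom : ∀ t ∈ T, Commute (ρ t) eO := fun t ht => (cj_eq_iff ρ t eO).1 (heOc t ht)
  have heO0 : eO * ε0 = ε0 := hsum O hOO ε0 h0O
  have heOid : eO * eO = eO := by
    conv_lhs => rw [heO, Finset.mul_sum]
    rw [heO]
    exact Finset.sum_congr rfl fun x hx => hsum O hOO x hx
  -- (β)
  have hβ : ∀ r ∈ R, eO r = r := by
    by_cases hex : ∃ r ∈ R, eO r ≠ 0
    · obtain ⟨r, hr, h1⟩ := hex
      have h2 : eO r ∈ R := S.pres_R ht1 ht11 (heOcom t1 ht1) hr
      have h3 : eO (eO r) = eO r := LinearMap.congr_fun heOid r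
      intro x hx
      rcases eq_or_ne x 0 with rfl | hx0
      · exact map_zero _
      · obtain ⟨t, ht, rfl⟩ := S.trans _ h2 h1 x hx hx0
        have h4 : cj ρ t eO (ρ t (eO r)) = ρ t (eO (eO r)) := cj_apply ρ t eO _
        rw [heOc t ht, h3] at h4
        exact h4
    · push Not at hex
      exfalso
      apply hmv
      apply hfixc t1 ε0 hε0
      ext y
      have h1 := hex _ (S.sub_mem ht1 (ε0 y))
      have h2 : eO (ρ t1 (ε0 y)) = ρ t1 (eO (ε0 y)) := (LinearMap.congr_fun (heOcom t1 ht1).eq (ε0 y)).symm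
      have h3 : eO (ε0 y) = ε0 y := LinearMap.congr_fun heO0 y
      rw [map_sub, h2, h3] at h1
      exact sub_eq_zero.1 h1
  -- (γ)
  have hγ : ∀ ε ∈ Om, ε ∉ O → ∀ t ∈ T, cj ρ t ε = ε := by
    intro ε hε hn t ht
    have hn' : cj ρ t ε ∉ O := by
      intro h1
      apply hn
      have h2 := hOinv t⁻¹ (inv_mem ht) _ h1
      rwa [cj_cj, inv_mul_cancel, cj_one_left] at h2
    apply hfixc t ε hε
    ext y
    have h1 := hβ _ (S.sub_mem ht (ε y))
    have h2 : eO (ε y) = 0 := LinearMap.congr_fun (hsum0 O hOO ε hε hn) y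
    have h3 : eO (ρ t (ε y)) = 0 := by
      rw [← cj_apply ρ t ε y]
      exact LinearMap.congr_fun (hsum0 O hOO _ (hcj t ε hε) hn') (ρ t y)
    rw [map_sub, h2, h3, sub_self] at h1
    exact (sub_eq_zero.1 h1.symm)
  -- (δ)
  have hδ : ∀ t ∈ T, cj ρ t ε0 = ε0 → t = 1 := by
    intro t ht h1
    refine hi t ht fun ε hε => ?_
    by_cases hn : ε ∈ O
    · obtain ⟨s, -, rfl⟩ := Finset.mem_image.1 hn
      show cj ρ t (cj ρ s ε0) = cj ρ s ε0
      rw [cj_cj, S.com t ht s s.2, ← cj_cj, h1]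
    · exact hγ ε hε hn t ht
  have hTO : Nat.card T ≤ Om.card := by
    rw [Nat.card_eq_fintype_card, ← Finset.card_univ]
    refine Finset.card_le_card_of_injOn (fun t : T => cj ρ t ε0) (fun t _ => hcj t ε0 hε0) ?_
    intro s _ t _ hst
    have h1 : cj ρ ((t : K)⁻¹ * s) ε0 = ε0 := by
      have h2 := congrArg (cj ρ (t : K)⁻¹) hst
      rwa [cj_cj, cj_cj, inv_mul_cancel, cj_one_left] at h2
    have h2 := hδ _ (mul_mem (inv_mem t.2) s.2) h1
    exact (Subtype.ext (inv_mul_eq_one.1 h2)).symm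
  -- `2 ^ |Om| ≤ |Y|`
  have hvec : ∀ ε : Om, ∃ v : Y, (ε : End (ZMod 2) Y) v = v ∧ v ≠ 0 := by
    rintro ⟨ε, hε⟩
    have h1 : ∃ y, ε y ≠ 0 := by
      by_contra hcon
      push Not at hcon
      exact (hmin ε hε).ne (LinearMap.ext hcon)
    obtain ⟨y, hy⟩ := h1
    exact ⟨ε y, LinearMap.congr_fun (hmin ε hε).idem y, hy⟩
  choose v hv1 hv0 using hvec
  have hpow : 2 ^ Om.card ≤ Nat.card Y := by
    have h1 : Nat.card (Finset Om) = 2 ^ Om.card := by
      rw [Nat.card_eq_fintype_card, Fintype.card_finset, Fintype.card_coe]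
    rw [← h1]
    refine Nat.card_le_card_of_injective (fun J : Finset Om => ∑ i ∈ J, v i) ?_
    have key : ∀ J : Finset Om, ∀ i : Om, (i : End (ZMod 2) Y) (∑ j ∈ J, v j) = if i ∈ J then v i else 0 := by
      intro J i
      rw [map_sum]
      have h2 : ∀ j ∈ J, (i : End (ZMod 2) Y) (v j) = if i = j then v i else 0 := by
        intro j _
        split_ifs with hij
        · rw [← hij, hv1]
        · rw [← hv1 j]
          exact LinearMap.congr_fun (horth i i.2 j j.2 (fun h => hij (Subtype.ext h))) (v j)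
      rw [Finset.sum_congr rfl h2, Finset.sum_ite_eq]
    intro J J' hJ
    ext i
    have h2 : (i : End (ZMod 2) Y) (∑ j ∈ J, v j) = (i : End (ZMod 2) Y) (∑ j ∈ J', v j) := congrArg _ hJ
    rw [key, key] at h2
    constructor
    · intro hi
      by_contra hn
      rw [if_pos hi, if_neg hn] at h2
      exact hv0 i h2
    · intro hi
      by_contra hn
      rw [if_neg hn, if_pos hi] at h2
      exact hv0 i h2.symm
  have h9 : 2 ^ (Nat.card R - 1) ≤ Nat.card R ^ 2 := by
    calc 2 ^ (Nat.card R - 1) ≤ 2 ^ Om.card := Nat.pow_le_pow_right (by norm_num) (by omega)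
      _ ≤ _ := hpow.trans hcard
  exact absurd (num h8) (not_lt.2 h9)

/-- **(2) of #21702** -/
theorem Sing.commute [Finite K] [Finite Y] {T : Subgroup K} {R D : Submodule (ZMod 2) Y} (S : Sing ρ T R D)
    (hodd : Odd (Nat.card K)) {A : Subgroup K} (hA : A.Normal) (hc : ∀ a ∈ A, ∀ b ∈ A, a * b = b * a)
    (hI : Irr ρ) (hD : D ≠ ⊥) (hcard : Nat.card Y ≤ Nat.card R ^ 2) (h8 : 8 ≤ Nat.card R) {t : K} (ht : t ∈ T)
    {α : End (ZMod 2) Y} (hα : α ∈ alg ρ A) : Commute (ρ t) α := by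
  obtain ⟨v, -, hv0⟩ := D.ne_bot_iff.1 hD
  have : Nontrivial Y := ⟨⟨v, 0, hv0⟩⟩
  obtain ⟨e, h⟩ := exists_min (ρ := ρ) hc
  by_cases hk : ∀ k, cj ρ k e = e
  · have h1 := idem_eq_one hI h.idem h.ne hk
    subst h1
    exact S.field_case hodd hA hc h hD hcard h8 ht hα
  · push Not at hk
    exact (S.block_case hodd hA hc h hk hI hcard h8).elim

end Cfsg.Agent.Omega.NOThreeL.Ns.Singer
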