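import Cfsg.Agent.Omega.NOThreeL.Ns.Singer.Blocks

/-!
# LEMMA SINGER (#21702, helper369), part 3: the irreducible case

* `schur` : an operator which commutes with `K` and has a kernel is `0`;
* `MD` : `Q ⊴ K` with `Q' ≤ Z(K)`, `Z(Q) ≤ Z(K)`;
* `MD.comm_of` : (4); `MD.eq_one` : (5); `MD.comm_all` : (5'); `MD.card_le` : (6);
* `Sing.false` : the irreducible case is impossible.
-/

set_option autoImplicit false

namespace Cfsg.Agent.Omega.NOThreeL.Ns.Singer

open Module Subgroup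
open scoped commutatorElement

universe u v

variable {K : Type u} [Group K] {Y : Type v} [AddCommGroup Y] [Module (ZMod 2) Y]
  {ρ : K →* End (ZMod 2) Y}

theorem schur (hI : Irr ρ) {γ : End (ZMod 2) Y} (hγ : ∀ k, Commute (ρ k) γ) {y : Y} (hy : y ≠ 0) (h : γ y = 0) :
    γ = 0 := by
  rcases hI (LinearMap.ker γ) (fun k w hw => by
    rw [LinearMap.mem_ker] at hw ⊢
    rw [← Module.End.mul_apply, ← (hγ k).eq, Module.End.mul_apply, hw, map_zero]) with h1 | h1
  · exact absurd ((LinearMap.ker_eq_bot'.1 h1) y h) hy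
  · exact LinearMap.ker_eq_top.1 h1

theorem commute_center {z : K} (hz : z ∈ center K) (k : K) : Commute (ρ k) (ρ z) := by
  show ρ k * ρ z = ρ z * ρ k
  rw [← map_mul, ← map_mul, mem_center_iff.1 hz k]

/-- two central elements which agree on a non-zero vector -/
theorem center_eq (hI : Irr ρ) (hinj : Function.Injective ρ) {z z' : K} (hz : z ∈ center K) (hz' : z' ∈ center K)
    {y : Y} (hy : y ≠ 0) (h : ρ z y = ρ z' y) : z = z' := by
  apply hinj
  apply sub_eq_zero.1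
  refine schur hI (fun k => ?_) hy (by rw [LinearMap.sub_apply, h, sub_self])
  exact (commute_center hz k).sub_right (commute_center hz' k)

theorem sq_ne_one [Finite K] (hodd : Odd (Nat.card K)) {z : K} (h : z ^ 2 = 1) : z = 1 := by
  have h1 : orderOf z ∣ 2 := orderOf_dvd_of_pow_eq_one h
  have h2 : Odd (orderOf z) := hodd.of_dvd_nat (orderOf_dvd_natCard z)
  rcases (Nat.dvd_prime Nat.prime_two).1 h1 with h3 | h3
  · exact orderOf_eq_one_iff.1 h3
  · rw [h3] at h2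
    exact absurd h2 (by decide)

/-- the situation of (3) -/
structure MD (ρ : K →* End (ZMod 2) Y) (T : Subgroup K) (R D : Submodule (ZMod 2) Y) (Q : Subgroup K) : Prop where
  sing : Sing ρ T R D
  inj : Function.Injective ρ
  irr : Irr ρ
  neD : D ≠ ⊥
  odd : Odd (Nat.card K)
  nor : Q.Normal
  comm : ∀ x ∈ Q, ∀ y ∈ Q, ⁅x, y⁆ ∈ center K
  cen : ∀ x ∈ Q, (∀ y ∈ Q, x * y = y * x) → x ∈ center K

namespace MD

variable {T : Subgroup K} {R D : Submodule (ZMod 2) Y} {Q : Subgroup K}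

/-- `x t x⁻¹ = z t`, `z ≠ 1` central: `t` is `z⁻¹` on `R`. -/
theorem eig [Finite Y] (h : MD ρ T R D Q) {t : K} (ht : t ∈ T) (ht1 : t ≠ 1) {x z : K} (hz : z ∈ center K)
    (hz1 : z ≠ 1) (e : x * t * x⁻¹ = z * t) {r : Y} (hr : r ∈ R) : ρ t r = ρ z⁻¹ r := by
  obtain ⟨v, hv, hv0⟩ := D.ne_bot_iff.1 h.neD
  have hzi : z⁻¹ ∈ center K := inv_mem hz
  have h1 : t * x = z⁻¹ * (x * t) := by
    have h2 : x * t = z * t * x := by rw [← e]; group
    rw [h2]
    group
  have h2 : ρ t (ρ x v) = ρ z⁻¹ (ρ x v) := by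
    rw [← Module.End.mul_apply, ← map_mul, h1, map_mul, map_mul, Module.End.mul_apply, Module.End.mul_apply,
      h.sing.fix t ht v hv]
  obtain ⟨r0, hr0, d, hd, h3⟩ := h.sing.exists_add (ρ x v)
  have h4 : ρ t r0 - ρ z⁻¹ r0 = ρ z⁻¹ d - d := by
    rw [← h3, map_add, map_add, h.sing.fix t ht d hd] at h2
    have : ρ t r0 = ρ z⁻¹ r0 + ρ z⁻¹ d - d := by rw [← h2]; abel
    rw [this]
    abel
  have h5 : ρ z⁻¹ d - d = 0 := by
    refine h.sing.eq_zero ?_ (D.sub_mem (h.sing.pres_D ht ht1 (commute_center hzi t) hd) hd)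
    rw [← h4]
    exact R.sub_mem (h.sing.inv t ht _ hr0) (h.sing.pres_R ht ht1 (commute_center hzi t) hr0)
  have h6 : d = 0 := by
    by_contra hd0
    apply hz1
    have h7 : ρ z⁻¹ d = ρ 1 d := by
      rw [map_one]
      exact sub_eq_zero.1 h5
    exact inv_eq_one.1 (center_eq h.irr h.inj hzi (one_mem _) hd0 h7)
  subst h6
  rw [add_zero] at h3
  subst h3
  have h7 : ρ x v ≠ 0 := fun h0 => hv0 (apply_inj ρ x (h0.trans (map_zero (ρ x)).symm))
  rcases eq_or_ne r 0 with rfl | hr00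
  · rw [map_zero, map_zero]
  obtain ⟨s, hs, rfl⟩ := h.sing.trans _ hr0 h7 r hr hr00
  rw [← Module.End.mul_apply, ← map_mul, h.sing.com t ht s hs, map_mul, Module.End.mul_apply, h2,
    ← Module.End.mul_apply, (commute_center hzi s).eq]
  rfl

/-- (4) -/
theorem comm_of [Finite K] [Finite Y] (h : MD ρ T R D Q) (hR : R ≠ ⊥) {t : K} (ht : t ∈ T) (ht1 : t ≠ 1) {x : K}
    (hz : ⁅x, t⁆ ∈ center K) : ⁅x, t⁆ = 1 := by
  by_contra hne
  obtain ⟨r, hr, hr0⟩ := R.ne_bot_iff.1 hR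
  set z := ⁅x, t⁆ with hzd
  have e1 : x * t * x⁻¹ = z * t := by rw [hzd, commutatorElement_def]; group
  have e2 : x ^ 2 * t * (x ^ 2)⁻¹ = z ^ 2 * t := by
    rw [pow_two, pow_two]
    calc x * x * t * (x * x)⁻¹ = x * (x * t * x⁻¹) * x⁻¹ := by simp only [mul_inv_rev, mul_assoc]
      _ = x * (z * t) * x⁻¹ := by rw [e1]
      _ = x * z * (t * x⁻¹) := by simp only [mul_assoc]
      _ = z * x * (t * x⁻¹) := by rw [mem_center_iff.1 hz x]
      _ = z * (x * t * x⁻¹) := by simp only [mul_assoc]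
      _ = z * z * t := by rw [e1, mul_assoc]
  have h1 := h.eig ht ht1 hz hne e1 hr
  have h2 := h.eig ht ht1 (pow_mem hz 2) (fun h3 => hne (sq_ne_one h.odd h3)) e2 hr
  have h3 : z⁻¹ = (z ^ 2)⁻¹ :=
    center_eq h.irr h.inj (inv_mem hz) (inv_mem (pow_mem hz 2)) hr0 (h1.symm.trans h2)
  apply hne
  have h4 := inv_injective h3
  have h5 : z * 1 = z * z := by rw [mul_one, ← pow_two]; exact h4
  exact (mul_left_cancel h5).symm

/-- the elements of `Q_D` -/
def PD (ρ : K →* End (ZMod 2) Y) (R D : Submodule (ZMod 2) Y) (Q : Subgroup K) (y : K) : Prop :=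
  y ∈ Q ∧ (∀ d ∈ D, ρ y d = d) ∧ ∀ r ∈ R, ρ y r ∈ R

theorem pd_conj (h : MD ρ T R D Q) {y : K} (hy : PD ρ R D Q y) {s : K} (hs : s ∈ T) :
    PD ρ R D Q (s⁻¹ * y * s) := by
  refine ⟨?_, fun d hd => ?_, fun r hr => ?_⟩
  · have := h.nor.conj_mem y hy.1 s⁻¹
    rwa [inv_inv] at this
  · rw [map_mul, map_mul, Module.End.mul_apply, Module.End.mul_apply, h.sing.fix s hs d hd, hy.2.1 d hd,
      h.sing.fix s⁻¹ (inv_mem hs) d hd]
  · rw [map_mul, map_mul, Module.End.mul_apply, Module.End.mul_apply]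
    exact h.sing.inv _ (inv_mem hs) _ (hy.2.2 _ (h.sing.inv s hs r hr))

/-- `f⁻¹ y f = y z`: `y` is `z` on `ρ f D` -/
theorem pd_apply {y f z : K} (hy : PD ρ R D Q y) (hz : z ∈ center K) (e : f⁻¹ * y * f = y * z) {v : Y} (hv : v ∈ D) :
    ρ y (ρ f v) = ρ z (ρ f v) := by
  have h1 : y * f = f * (z * y) := by
    rw [← mem_center_iff.1 hz y, ← e]; group
  rw [← Module.End.mul_apply, ← map_mul, h1, map_mul, map_mul, Module.End.mul_apply, Module.End.mul_apply,
    hy.2.1 v hv, ← Module.End.mul_apply, (commute_center hz f).eq]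
  rfl

theorem pd_scalar [Finite Y] (h : MD ρ T R D Q) (hT : T ≠ ⊥) {y f z : K} (hy : PD ρ R D Q y) (hf : f ∈ Q)
    (hz : z ∈ center K) (hz1 : z ≠ 1) (e : f⁻¹ * y * f = y * z) {r : Y} (hr : r ∈ R) : ρ y r = ρ z r := by
  obtain ⟨t1, ht1, ht11⟩ := T.bot_or_exists_ne_one.resolve_left hT
  obtain ⟨v, hv, hv0⟩ := D.ne_bot_iff.1 h.neD
  have hR' : ∀ z ∈ center K, ∀ r ∈ R, ρ z r ∈ R := fun z hz r hr => h.sing.pres_R ht1 ht11 (commute_center hz t1) hr
  have hD' : ∀ z ∈ center K, ∀ r ∈ D, ρ z r ∈ D := fun z hz r hr => h.sing.pres_D ht1 ht11 (commute_center hz t1) hr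
  have hw := pd_apply hy hz e hv
  have hw0 : ρ f v ≠ 0 := fun h0 => hv0 (apply_inj ρ f (h0.trans (map_zero (ρ f)).symm))
  -- `ρ f v ∈ R`
  have hwR : ρ f v ∈ R := by
    obtain ⟨r0, hr0, d, hd, h3⟩ := h.sing.exists_add (ρ f v)
    have h2 := hw
    rw [← h3, map_add, map_add, hy.2.1 d hd] at h2
    have h4 : ρ y r0 - ρ z r0 = ρ z d - d := by
      have : ρ y r0 = ρ z r0 + ρ z d - d := by rw [← h2]; abel
      rw [this]
      abel
    have h5 : ρ z d - d = 0 := by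
      refine h.sing.eq_zero ?_ (D.sub_mem (hD' z hz d hd) hd)
      rw [← h4]
      exact R.sub_mem (hy.2.2 _ hr0) (hR' z hz r0 hr0)
    have h6 : d = 0 := by
      by_contra hd0
      apply hz1
      have h7 : ρ z d = ρ 1 d := by
        rw [map_one]
        exact sub_eq_zero.1 h5
      exact center_eq h.irr h.inj hz (one_mem _) hd0 h7
    rw [← h3, h6, add_zero]
    exact hr0
  -- every vector of `R` is an eigenvector
  have hev : ∀ x ∈ R, x ≠ 0 → ∃ c ∈ center K, ρ y x = ρ c x := by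
    intro x hx hx0
    obtain ⟨s, hs, rfl⟩ := h.sing.trans _ hwR hw0 x hx hx0
    have hy' := h.pd_conj hy hs
    have hc : (s⁻¹ * y * s)⁻¹ * (f⁻¹ * (s⁻¹ * y * s) * f) ∈ center K := by
      have h8 := h.comm (s⁻¹ * y * s)⁻¹ (inv_mem hy'.1) f⁻¹ (inv_mem hf)
      rw [commutatorElement_def] at h8
      have h9 : (s⁻¹ * y * s)⁻¹ * (f⁻¹ * (s⁻¹ * y * s) * f) =
          (s⁻¹ * y * s)⁻¹ * f⁻¹ * ((s⁻¹ * y * s)⁻¹)⁻¹ * (f⁻¹)⁻¹ := by group
      rw [h9]
      exact h8
    refine ⟨_, hc, ?_⟩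
    have h8 := pd_apply hy' hc (f := f) (by simp only [mul_assoc, mul_inv_cancel_left, mul_inv_rev, inv_inv, inv_mul_cancel_left]) hv
    have h9 : ρ y (ρ s (ρ f v)) = ρ s (ρ (s⁻¹ * y * s) (ρ f v)) := by
      have h10 : ρ y * ρ s = ρ s * ρ (s⁻¹ * y * s) := by
        rw [← map_mul, ← map_mul]
        congr 1
        simp only [mul_assoc, mul_inv_cancel_left]
      exact LinearMap.congr_fun h10 (ρ f v)
    rw [h9, h8, ← Module.End.mul_apply, (commute_center hc s).eq]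
    rfl
  rcases eq_or_ne r 0 with rfl | hr0
  · rw [map_zero, map_zero]
  obtain ⟨c, hc, h1⟩ := hev r hr hr0
  set w := ρ f v with hwdef
  suffices hcz : c = z by rw [h1, hcz]
  rcases eq_or_ne (w + r) 0 with h0 | h0
  · have h2 : r = -w := (neg_eq_of_add_eq_zero_right h0).symm
    rw [h2, map_neg, map_neg, hw, neg_inj] at h1
    exact (center_eq h.irr h.inj hz hc hw0 h1).symm
  · obtain ⟨c', hc', h2⟩ := hev (w + r) (R.add_mem hwR hr) h0
    have h3 : (ρ z - ρ c') w = (ρ c' - ρ c) r := by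
      rw [map_add, map_add, hw, h1] at h2
      rw [LinearMap.sub_apply, LinearMap.sub_apply]
      have : ρ z w = ρ c' w + ρ c' r - ρ c r := by rw [← h2]; abel
      rw [this]
      abel
    have hcom : ∀ a ∈ center K, ∀ b ∈ center K, ∀ k, Commute (ρ k) (ρ a - ρ b) := fun a ha b hb k =>
      (commute_center ha k).sub_right (commute_center hb k)
    by_cases hα : ρ z - ρ c' = 0
    · rw [hα, LinearMap.zero_apply] at h3
      have h4 := schur h.irr (hcom c' hc' c hc) hr0 h3.symm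
      exact (h.inj (sub_eq_zero.1 hα)).symm ▸ (h.inj (sub_eq_zero.1 h4)).symm
    · have h4 : (ρ z - ρ c') (ρ y w) = (ρ c' - ρ c) (ρ y r) := by
        have h5 := congrArg (ρ y) h3
        have h51 : ρ y ((ρ z - ρ c') w) = (ρ z - ρ c') (ρ y w) := LinearMap.congr_fun (hcom z hz c' hc' y).eq w
        have h52 : ρ y ((ρ c' - ρ c) r) = (ρ c' - ρ c) (ρ y r) := LinearMap.congr_fun (hcom c' hc' c hc y).eq r
        rw [h51, h52] at h5
        exact h5
      rw [hw, h1] at h4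
      have h5 : (ρ c' - ρ c) (ρ c r) = ρ c ((ρ z - ρ c') w) := by
        rw [h3, ← Module.End.mul_apply, ← (hcom c' hc' c hc c).eq]
        rfl
      have h6 : (ρ z - ρ c') (ρ z w - ρ c w) = 0 := by
        rw [map_sub, h4, h5, ← Module.End.mul_apply (ρ z - ρ c') (ρ c), ← (hcom z hz c' hc' c).eq]
        exact sub_self _
      by_contra hne
      have h7 : ρ z w - ρ c w ≠ 0 := fun h8 => hne (center_eq h.irr h.inj hz hc hw0 (sub_eq_zero.1 h8)).symm
      exact hα (schur h.irr (hcom z hz c' hc') h7 h6)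

/-- (5) -/
theorem eq_one [Finite K] [Finite Y] (h : MD ρ T R D Q) (hR : R ≠ ⊥) (hT : T ≠ ⊥) {y : K} (hy : PD ρ R D Q y) :
    y = 1 := by
  obtain ⟨v, hv, hv0⟩ := D.ne_bot_iff.1 h.neD
  obtain ⟨r, hr, hr0⟩ := R.ne_bot_iff.1 hR
  have hc : y ∈ center K := by
    refine h.cen y hy.1 fun f hf => ?_
    set z := y⁻¹ * (f⁻¹ * y * f) with hzd
    have hz : z ∈ center K := by
      have h8 := h.comm y⁻¹ (inv_mem hy.1) f⁻¹ (inv_mem hf)
      rw [commutatorElement_def, inv_inv, inv_inv] at h8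
      have h9 : z = y⁻¹ * f⁻¹ * y * f := by rw [hzd]; group
      rw [h9]
      exact h8
    have e1 : f⁻¹ * y * f = y * z := by rw [hzd]; group
    have e2 : (f ^ 2)⁻¹ * y * f ^ 2 = y * z ^ 2 := by
      rw [pow_two, pow_two]
      calc (f * f)⁻¹ * y * (f * f) = f⁻¹ * (f⁻¹ * y * f) * f := by simp only [mul_inv_rev, mul_assoc]
        _ = f⁻¹ * (y * z) * f := by rw [e1]
        _ = f⁻¹ * y * (z * f) := by simp only [mul_assoc]
        _ = f⁻¹ * y * (f * z) := by rw [mem_center_iff.1 hz f]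
        _ = (f⁻¹ * y * f) * z := by simp only [mul_assoc]
        _ = y * (z * z) := by rw [e1, mul_assoc]
    by_cases hz1 : z = 1
    · rw [hz1, mul_one] at e1
      calc y * f = f * (f⁻¹ * y * f) := by group
        _ = f * y := by rw [e1]
    · exfalso
      have h1 := h.pd_scalar hT hy hf hz hz1 e1 hr
      have h2 := h.pd_scalar hT hy (pow_mem hf 2) (pow_mem hz 2) (fun h3 => hz1 (sq_ne_one h.odd h3)) e2 hr
      have h3 : z = z ^ 2 := center_eq h.irr h.inj hz (pow_mem hz 2) hr0 (h1.symm.trans h2)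
      apply hz1
      have h5 : z * 1 = z * z := by rw [mul_one, ← pow_two]; exact h3
      exact (mul_left_cancel h5).symm
  exact center_eq h.irr h.inj hc (one_mem _) hv0 (by rw [hy.2.1 v hv, map_one]; rfl)

/-- (5') -/
theorem comm_all [Finite K] [Finite Y] (h : MD ρ T R D Q) (hR : R ≠ ⊥) {x : K} (hx : x ∈ Q) {t : K} (ht : t ∈ T)
    (ht1 : t ≠ 1) (hc : x * t = t * x) {s : K} (hs : s ∈ T) : x * s = s * x := by
  have hT : T ≠ ⊥ := fun h0 => ht1 (by rw [h0] at ht; exact mem_bot.1 ht)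
  have hcx : Commute (ρ t) (ρ x) := by
    show ρ t * ρ x = ρ x * ρ t
    rw [← map_mul, ← map_mul, hc]
  have hcx' : Commute (ρ t) (ρ x⁻¹) := by
    show ρ t * ρ x⁻¹ = ρ x⁻¹ * ρ t
    rw [← map_mul, ← map_mul]
    congr 1
    calc t * x⁻¹ = x⁻¹ * (x * t) * x⁻¹ := by group
      _ = x⁻¹ * t := by rw [hc]; group
  have h1 : PD ρ R D Q (x * s * x⁻¹ * s⁻¹) := by
    refine ⟨?_, fun d hd => ?_, fun r hr => ?_⟩
    · have := h.nor.conj_mem x⁻¹ (inv_mem hx) s
      have h2 : x * s * x⁻¹ * s⁻¹ = x * (s * x⁻¹ * s⁻¹) := by group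
      rw [h2]
      exact mul_mem hx this
    · rw [map_mul, map_mul, map_mul, Module.End.mul_apply, Module.End.mul_apply, Module.End.mul_apply,
        h.sing.fix s⁻¹ (inv_mem hs) d hd, h.sing.fix s hs _ (h.sing.pres_D ht ht1 hcx' hd), apply_inv]
    · rw [map_mul, map_mul, map_mul, Module.End.mul_apply, Module.End.mul_apply, Module.End.mul_apply]
      exact h.sing.pres_R ht ht1 hcx (h.sing.inv s hs _ (h.sing.pres_R ht ht1 hcx' (h.sing.inv s⁻¹ (inv_mem hs) r hr)))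
  have h2 := h.eq_one hR hT h1
  calc x * s = (x * s * x⁻¹ * s⁻¹) * (s * x) := by group
    _ = s * x := by rw [h2, one_mul]

/-- (6) -/
theorem card_le [Finite K] [Finite Y] (h : MD ρ T R D Q) (hR : R ≠ ⊥) (hnc : ∃ x ∈ Q, ∃ s ∈ T, x * s ≠ s * x) :
    Nat.card T + 1 ≤ Nat.card (Q ⧸ (center K).subgroupOf Q) := by
  classical
  obtain ⟨x0, hx0, s0, hs0, hne⟩ := hnc
  have hm : ∀ s : T, (s : K) * x0 * (s : K)⁻¹ ∈ Q := fun s => h.nor.conj_mem x0 hx0 s
  let f : Option T → Q ⧸ (center K).subgroupOf Q := fun o =>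
    match o with
    | none => QuotientGroup.mk 1
    | some s => QuotientGroup.mk ⟨(s : K) * x0 * (s : K)⁻¹, hm s⟩
  have hcen : x0 ∉ center K := fun h1 => hne (mem_center_iff.1 h1 s0).symm
  have hf : Function.Injective f := by
    have key : ∀ s : T, f (some s) ≠ f none := by
      intro s hs
      have h1 := QuotientGroup.eq.1 hs
      rw [mem_subgroupOf] at h1
      apply hcen
      have h2 : (s : K) * x0⁻¹ * (s : K)⁻¹ ∈ center K := by
        have h3 : ((⟨(s : K) * x0 * (s : K)⁻¹, hm s⟩ : Q)⁻¹ * 1 : Q) = ((s : K) * x0⁻¹ * (s : K)⁻¹) := by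
          push_cast
          group
        rw [← h3]
        exact h1
      have h3 := (inferInstance : (center K).Normal).conj_mem _ h2 (s : K)⁻¹
      have h4 : (s : K)⁻¹ * ((s : K) * x0⁻¹ * (s : K)⁻¹) * (s : K)⁻¹⁻¹ = x0⁻¹ := by group
      rw [h4] at h3
      exact inv_mem_iff.1 h3
    rintro (_ | s) (_ | s') hss
    · rfl
    · exact absurd hss.symm (key s')
    · exact absurd hss (key s)
    · congr 1
      have h1 := QuotientGroup.eq.1 hss
      rw [mem_subgroupOf] at h1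
      by_contra hne'
      set t : K := (s' : K)⁻¹ * s with htd
      have ht : t ∈ T := mul_mem (inv_mem s'.2) s.2
      have ht1 : t ≠ 1 := fun h2 => hne' (Subtype.ext (inv_mul_eq_one.1 h2)).symm
      have h2 : ⁅x0⁻¹, t⁆ ∈ center K := by
        have h3 : (((⟨(s : K) * x0 * (s : K)⁻¹, hm s⟩ : Q)⁻¹ * ⟨(s' : K) * x0 * (s' : K)⁻¹, hm s'⟩ : Q) : K) =
            (s : K) * x0⁻¹ * (s : K)⁻¹ * ((s' : K) * x0 * (s' : K)⁻¹) := by
          push_cast
          group
        rw [h3] at h1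
        have h4 := (inferInstance : (center K).Normal).conj_mem _ h1 (s : K)⁻¹
        have h5 : ⁅x0⁻¹, t⁻¹⁆ = (s : K)⁻¹ * ((s : K) * x0⁻¹ * (s : K)⁻¹ * ((s' : K) * x0 * (s' : K)⁻¹)) * (s : K)⁻¹⁻¹ := by
          rw [commutatorElement_def, htd]
          group
        rw [← h5] at h4
        -- `⁅x0⁻¹, t⁻¹⁆ ∈ Z` gives `⁅x0⁻¹, t⁆ ∈ Z`
        have h6 : ⁅x0⁻¹, t⁆ = t * (⁅x0⁻¹, t⁻¹⁆)⁻¹ * t⁻¹ := by
          rw [commutatorElement_def, commutatorElement_def]; group
        rw [h6]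
        exact (inferInstance : (center K).Normal).conj_mem _ (inv_mem h4) t
      have h3 := h.comm_of hR ht ht1 h2
      have h4 : x0 * t = t * x0 := by
        rw [commutatorElement_eq_one_iff_mul_comm] at h3
        calc x0 * t = x0 * (t * x0⁻¹) * x0 := by group
          _ = t * x0 := by rw [← h3]; group
      exact hne (h.comm_all hR hx0 ht ht1 h4 hs0)
  have h1 := Nat.card_le_card_of_injective f hf
  have h2 : Nat.card (Option T) = Nat.card T + 1 := Finite.card_option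
  rw [h2] at h1
  exact h1

end MD

end Cfsg.Agent.Omega.NOThreeL.Ns.Singer
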