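import Cfsg.Agent.Omega.NOThreeL.Ns.Singer.Main

/-!
# LEMMA SINGER (#21702, helper369), part 6: multiplicative forms

* `singer` : `ψ : K →* MulAut Z`;
* `singer_conj` : `K` acts by conjugation on the subgroup `Z` of `G`.
-/

set_option autoImplicit false

namespace Cfsg.Agent.Omega.NOThreeL.Ns.Singer

open Module Subgroup

universe u v

/-- **LEMMA SINGER**, multiplicative form: `T` is trivial on `D`, transitive on `R#`, commutative on `R`; the image of
`K` in `Aut Z` is soluble of odd order. -/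
theorem singer {K : Type u} [Group K] {Z : Type v} [CommGroup Z] [Finite Z] (h2 : ∀ z : Z, z * z = 1)
    (ψ : K →* MulAut Z) (hodd : Odd (Nat.card ψ.range)) (hsol : Group.IsSolvable ψ.range) {T : Subgroup K}
    {R D : Subgroup Z} (com : ∀ s ∈ T, ∀ t ∈ T, ∀ r ∈ R, ψ s (ψ t r) = ψ t (ψ s r))
    (fix : ∀ t ∈ T, ∀ d ∈ D, ψ t d = d) (inv : ∀ t ∈ T, ∀ r ∈ R, ψ t r ∈ R)
    (trans : ∀ r ∈ R, r ≠ 1 → ∀ r' ∈ R, r' ≠ 1 → ∃ t ∈ T, ψ t r = r') (hRD : R ⊓ D = ⊥) (hsup : R ⊔ D = ⊤)
    (hcard : Nat.card D ≤ Nat.card R) (h8 : 8 ≤ Nat.card R) :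
    ∀ k, (∀ r ∈ R, ψ k r ∈ R) ∧ ∀ d ∈ D, ψ k d ∈ D := by
  classical
  letI : Module (ZMod 2) (Additive Z) := AddCommGroup.zmodModule (fun z => by
    rw [two_nsmul]
    exact congrArg Additive.ofMul (h2 z.toMul))
  have hfinA : Finite (MulAut Z) := Finite.of_injective (fun f : MulAut Z => (f : Z → Z)) DFunLike.coe_injective
  let ρ : ψ.range →* End (ZMod 2) (Additive Z) :=
    { toFun := fun a => (MonoidHom.toAdditive (a : MulAut Z).toMonoidHom).toZModLinearMap 2
      map_one' := rfl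
      map_mul' := fun _ _ => rfl }
  let oi : Subgroup Z ≃o Submodule (ZMod 2) (Additive Z) :=
    (Subgroup.toAddSubgroup (G := Z)).trans (AddSubgroup.toZModSubmodule 2)
  have hcompl : IsCompl R D := ⟨disjoint_iff.2 hRD, codisjoint_iff.2 hsup⟩
  -- every element of `Z` is `r d`
  have hz : ∀ z : Z, ∃ r ∈ R, ∃ d ∈ D, r * d = z := by
    intro z
    have h : z ∈ R ⊔ D := by rw [hsup]; trivial
    exact mem_sup.1 h
  have S : Sing ρ ((T.map ψ).subgroupOf ψ.range) (oi R) (oi D) :=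
    { com := by
        rintro ⟨_, _⟩ ⟨s, hs, rfl⟩ ⟨_, _⟩ ⟨t, ht, rfl⟩
        apply Subtype.ext
        apply MulEquiv.ext
        intro z
        obtain ⟨r, hr, d, hd, rfl⟩ := hz z
        show ψ s (ψ t (r * d)) = ψ t (ψ s (r * d))
        rw [map_mul, map_mul, map_mul, map_mul, fix t ht d hd, fix s hs d hd, fix t ht d hd, com s hs t ht r hr]
      fix := by
        rintro ⟨_, _⟩ ⟨s, hs, rfl⟩ d hd
        exact congrArg Additive.ofMul (fix s hs d.toMul hd)
      inv := by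
        rintro ⟨_, _⟩ ⟨s, hs, rfl⟩ d hd
        exact inv s hs d.toMul hd
      trans := by
        intro r hr hr0 r' hr' hr0'
        obtain ⟨t, ht, h⟩ := trans r.toMul hr (fun h => hr0 (congrArg Additive.ofMul h)) r'.toMul hr'
          (fun h => hr0' (congrArg Additive.ofMul h))
        exact ⟨⟨ψ t, ⟨t, rfl⟩⟩, ⟨t, ht, rfl⟩, congrArg Additive.ofMul h⟩
      free := by
        rintro ⟨_, _⟩ ⟨s, hs, rfl⟩ h1 r hr h
        by_contra hr0
        apply h1
        have h3 : ψ s r.toMul = r.toMul := congrArg Additive.toMul h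
        apply Subtype.ext
        apply MulEquiv.ext
        intro z
        show ψ s z = z
        obtain ⟨r', hr', d, hd, rfl⟩ := hz z
        rw [map_mul, fix s hs d hd]
        congr 1
        by_cases hr1 : r' = 1
        · rw [hr1, map_one]
        · obtain ⟨t, ht, rfl⟩ := trans r.toMul hr (fun h => hr0 (congrArg Additive.ofMul h)) r' hr' hr1
          rw [com s hs t ht r.toMul hr, h3]
      compl := oi.isCompl hcompl }
  have hcR : Nat.card (oi R) = Nat.card R := Nat.card_congr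
    ⟨fun r => ⟨r.1.toMul, r.2⟩, fun r => ⟨Additive.ofMul r.1, r.2⟩, fun _ => rfl, fun _ => rfl⟩
  have hcD : Nat.card (oi D) = Nat.card D := Nat.card_congr
    ⟨fun r => ⟨r.1.toMul, r.2⟩, fun r => ⟨Additive.ofMul r.1, r.2⟩, fun _ => rfl, fun _ => rfl⟩
  have hcZ : Nat.card (Additive Z) ≤ Nat.card (oi R) ^ 2 := by
    have h1 : Nat.card (Additive Z) = Nat.card (oi R) * Nat.card (oi D) := by
      rw [← Nat.card_prod]
      exact (Nat.card_congr (Submodule.prodEquivOfIsCompl _ _ S.compl).toEquiv).symm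
    rw [h1, pow_two, hcR, hcD]
    exact Nat.mul_le_mul_left _ hcard
  intro k
  have h := S.pres hodd hsol hcZ (by rw [hcR]; exact h8) ⟨ψ k, ⟨k, rfl⟩⟩
  exact ⟨fun r hr => h.1 (Additive.ofMul r) hr, fun d hd => h.2 (Additive.ofMul d) hd⟩

end Cfsg.Agent.Omega.NOThreeL.Ns.Singer
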