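import Cfsg.Agent.Omega.NOThreeL.Ns.Singer.Core

/-!
# LEMMA SINGER (#21702, helper369), part 4: the irreducible case is impossible

* `le_center` : abelian normal subgroups are central;
* `indep` : the cosets of `Z(K)` in `Q` are linearly independent over the field of `Z(K)`;
* `Sing.false` : the irreducible case is impossible.
-/

set_option autoImplicit false

namespace Cfsg.Agent.Omega.NOThreeL.Ns.Singer

open Module Subgroup
open scoped commutatorElement

universe u v

variable {K : Type u} [Group K] {Y : Type v} [AddCommGroup Y] [Module (ZMod 2) Y]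
  {ρ : K →* End (ZMod 2) Y}

theorem num2 {ν : ℕ} (h : 3 ≤ ν) : (2 * ν) ^ 2 < 4 ^ ν := by
  induction ν, h using Nat.le_induction with
  | base => norm_num
  | succ ν hν ih =>
    have h1 : 4 ^ (ν + 1) = 4 * 4 ^ ν := pow_succ' 4 ν
    rw [h1]
    nlinarith

/-- (2) : an abelian normal subgroup is central -/
theorem Sing.le_center [Finite K] [Finite Y] {T : Subgroup K} {R D : Submodule (ZMod 2) Y} (S : Sing ρ T R D)
    (hodd : Odd (Nat.card K)) (hinj : Function.Injective ρ) (hI : Irr ρ) (hD : D ≠ ⊥)
    (hN : normalClosure (T : Set K) = ⊤) (hcard : Nat.card Y ≤ Nat.card R ^ 2) (h8 : 8 ≤ Nat.card R)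
    {A : Subgroup K} (hA : A.Normal) (hc : ∀ a ∈ A, ∀ b ∈ A, a * b = b * a) : A ≤ center K := by
  have h1 : (T : Set K) ⊆ (centralizer (A : Set K) : Subgroup K) := by
    intro t ht
    rw [SetLike.mem_coe, mem_centralizer_iff]
    intro a ha
    have h2 := S.commute hodd hA hc hI hD hcard h8 ht (mem_alg ρ ha)
    apply hinj
    rw [map_mul, map_mul]
    exact h2.eq.symm
  have h3 : (centralizer (A : Set K)).Normal := inferInstance
  have h2 : (⊤ : Subgroup K) ≤ centralizer (A : Set K) := by
    rw [← hN]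
    exact normalClosure_le_normal h1
  intro a ha
  rw [mem_center_iff]
  intro g
  exact (mem_centralizer_iff.1 (h2 (mem_top g)) a ha).symm

section Field

variable {F : Type v} [Field F] (φ : F →+* End (ZMod 2) Y)

/-- the relations between the cosets of the centre -/
theorem indep [Nontrivial Y] (hinj : Function.Injective ρ)
    (hφ : ∀ c k, Commute (ρ k) (φ c)) (hZ : ∀ z ∈ center K, ∃ c, φ c = ρ z) {Q : Subgroup K}
    (comm : ∀ x ∈ Q, ∀ y ∈ Q, ⁅x, y⁆ ∈ center K)
    (cen : ∀ x ∈ Q, (∀ y ∈ Q, x * y = y * x) → x ∈ center K) {ι : Type u} (x : ι → K) (hx : ∀ i, x i ∈ Q)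
    (hne : ∀ i j, (x i)⁻¹ * x j ∈ center K → i = j) (s : Finset ι) :
    ∀ g : ι → F, (∀ y : Y, ∑ i ∈ s, φ (g i) (ρ (x i) y) = 0) → ∀ i ∈ s, g i = 0 := by
  classical
  have hφinj : Function.Injective φ := φ.injective
  induction s using Finset.induction_on with
  | empty =>
    intro g _ i hi
    exact absurd hi (Finset.notMem_empty i)
  | insert j s hj ih =>
    intro g hg
    have key : ∀ i ∈ s, g i = 0 := by
      intro i hi
      have hij : i ≠ j := fun h => hj (h ▸ hi)
      -- the element `f`
      have hw : (x i)⁻¹ * x j ∉ center K := fun h => hij (hne i j h)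
      have hwQ : (x i)⁻¹ * x j ∈ Q := mul_mem (inv_mem (hx i)) (hx j)
      obtain ⟨f, hf, hff⟩ : ∃ f ∈ Q, (x i)⁻¹ * x j * f ≠ f * ((x i)⁻¹ * x j) := by
        by_contra hcon
        push Not at hcon
        exact hw (cen _ hwQ hcon)
      have hc : ∀ l, ∃ c, φ c = ρ ⁅f, x l⁆ := fun l => hZ _ (comm f hf (x l) (hx l))
      choose c hc using hc
      have hcc : c i ≠ c j := by
        intro h
        have h1 : ⁅f, x i⁆ = ⁅f, x j⁆ := hinj (by rw [← hc i, ← hc j, h])
        apply hff
        set z := ⁅f, x i⁆ with hz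
        have h2 : f * x i = z * (x i * f) := by
          rw [hz, commutatorElement_def]
          group
        have h3 : f * x j = z * (x j * f) := by
          rw [h1, commutatorElement_def]
          group
        have hzc : ∀ g, g * z = z * g := fun g => mem_center_iff.1 (comm f hf (x i) (hx i)) g
        have h4 : (x i)⁻¹ * f = f * (x i)⁻¹ * z := by
          have h5 : x i * f = z⁻¹ * (f * x i) := by rw [h2]; group
          calc (x i)⁻¹ * f = (x i)⁻¹ * (f * x i) * (x i)⁻¹ := by group
            _ = (x i)⁻¹ * (z * (x i * f)) * (x i)⁻¹ := by rw [h2]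
            _ = ((x i)⁻¹ * z) * (x i * f) * (x i)⁻¹ := by simp only [mul_assoc]
            _ = (z * (x i)⁻¹) * (x i * f) * (x i)⁻¹ := by rw [hzc]
            _ = z * (f * (x i)⁻¹) := by group
            _ = f * (x i)⁻¹ * z := (hzc _).symm
        have h6 : x j * f = z⁻¹ * (f * x j) := by rw [h3]; group
        have hzc' : ∀ g, g * z⁻¹ = z⁻¹ * g := fun g => mem_center_iff.1 (inv_mem (comm f hf (x i) (hx i))) g
        calc (x i)⁻¹ * x j * f = (x i)⁻¹ * (x j * f) := by rw [mul_assoc]
          _ = ((x i)⁻¹ * z⁻¹) * (f * x j) := by rw [h6, mul_assoc]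
          _ = z⁻¹ * ((x i)⁻¹ * f) * x j := by rw [hzc']; simp only [mul_assoc]
          _ = z⁻¹ * (f * (x i)⁻¹ * z) * x j := by rw [h4]
          _ = z⁻¹ * (z * (f * (x i)⁻¹)) * x j := by rw [hzc]
          _ = f * ((x i)⁻¹ * x j) := by group
      -- the relation moved by `f`
      have hmove : ∀ l (y : Y), ρ f (φ (g l) (ρ (x l) (ρ f⁻¹ y))) = φ (g l * c l) (ρ (x l) y) := by
        intro l y
        have h1 : ρ f * ρ (x l) = φ (c l) * (ρ (x l) * ρ f) := by
          rw [hc l, ← map_mul, ← map_mul, ← map_mul]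
          congr 1
          rw [commutatorElement_def]
          group
        calc ρ f (φ (g l) (ρ (x l) (ρ f⁻¹ y))) = φ (g l) (ρ f (ρ (x l) (ρ f⁻¹ y))) :=
              LinearMap.congr_fun (hφ (g l) f).eq _
          _ = φ (g l) (φ (c l) (ρ (x l) (ρ f (ρ f⁻¹ y)))) := by
              congr 1
              exact LinearMap.congr_fun h1 (ρ f⁻¹ y)
          _ = φ (g l * c l) (ρ (x l) y) := by rw [apply_inv, map_mul]; rfl
      have hA : ∀ y : Y, ∑ l ∈ insert j s, φ (g l * c l) (ρ (x l) y) = 0 := by
        intro y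
        have h1 := congrArg (ρ f) (hg (ρ f⁻¹ y))
        rw [map_zero, map_sum] at h1
        rw [← h1]
        exact Finset.sum_congr rfl (fun l _ => (hmove l y).symm)
      have hB : ∀ y : Y, ∑ l ∈ insert j s, φ (g l * c j) (ρ (x l) y) = 0 := by
        intro y
        have h1 := congrArg (φ (c j)) (hg y)
        rw [map_zero, map_sum] at h1
        rw [← h1]
        refine Finset.sum_congr rfl (fun l _ => ?_)
        rw [mul_comm, map_mul]
        rfl
      have hC : ∀ y : Y, ∑ l ∈ s, φ (g l * (c l - c j)) (ρ (x l) y) = 0 := by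
        intro y
        have h1 : ∑ l ∈ insert j s, φ (g l * (c l - c j)) (ρ (x l) y) = 0 := by
          have h2 : ∀ l ∈ insert j s, φ (g l * (c l - c j)) (ρ (x l) y) =
              φ (g l * c l) (ρ (x l) y) - φ (g l * c j) (ρ (x l) y) := by
            intro l _
            rw [mul_sub, map_sub, LinearMap.sub_apply]
          rw [Finset.sum_congr rfl h2, Finset.sum_sub_distrib, hA, hB, sub_zero]
        rw [Finset.sum_insert hj, sub_self, mul_zero, map_zero, LinearMap.zero_apply, zero_add] at h1
        exact h1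
      have h1 := ih (fun l => g l * (c l - c j)) hC i hi
      rcases mul_eq_zero.1 h1 with h2 | h2
      · exact h2
      · exact absurd (sub_eq_zero.1 h2) hcc
    intro i hi
    rcases Finset.mem_insert.1 hi with rfl | hi'
    · obtain ⟨y, hy⟩ := exists_ne (0 : Y)
      by_contra hgi
      have h1 := hg y
      rw [Finset.sum_insert hj, Finset.sum_eq_zero (fun l hl => by rw [key l hl, map_zero, LinearMap.zero_apply]),
        add_zero] at h1
      have h2 : φ (g i)⁻¹ (φ (g i) (ρ (x i) y)) = 0 := by rw [h1, map_zero]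
      rw [← Module.End.mul_apply, ← map_mul, inv_mul_cancel₀ hgi, map_one] at h2
      exact hy (apply_inj ρ (x i) (h2.trans (map_zero _).symm))
    · exact key i hi'

/-- the number of cosets is at most `δ²` -/
theorem card_le_sq [Finite K] [Finite F] [Finite Y] [Nontrivial Y] (hinj : Function.Injective ρ)
    (hφ : ∀ c k, Commute (ρ k) (φ c)) (hZ : ∀ z ∈ center K, ∃ c, φ c = ρ z) {Q : Subgroup K}
    (comm : ∀ x ∈ Q, ∀ y ∈ Q, ⁅x, y⁆ ∈ center K)
    (cen : ∀ x ∈ Q, (∀ y ∈ Q, x * y = y * x) → x ∈ center K) :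
    letI : Module F Y := Module.compHom Y φ
    Nat.card (Q ⧸ (center K).subgroupOf Q) ≤ finrank F Y ^ 2 := by
  classical
  letI : Module F Y := Module.compHom Y φ
  have hfin : Module.Finite F Y := Module.Finite.of_finite
  let L : K → (Y →ₗ[F] Y) := fun k =>
    { toFun := ρ k
      map_add' := map_add _
      map_smul' := fun c y => LinearMap.congr_fun (hφ c k).eq y }
  let x : (Q ⧸ (center K).subgroupOf Q) → K := fun i => ((Quotient.out i : Q) : K)
  have h1 : LinearIndependent F (fun i => L (x i)) := by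
    rw [linearIndependent_iff']
    intro s g hg i hi
    refine indep φ hinj hφ hZ comm cen x (fun i => (Quotient.out i : Q).2) ?_ s g ?_ i hi
    · intro i j hij
      rw [← Quotient.out_eq i, ← Quotient.out_eq j]
      apply QuotientGroup.eq.2
      rw [mem_subgroupOf]
      exact hij
    · intro y
      have h2 := LinearMap.congr_fun hg y
      rw [LinearMap.sum_apply] at h2
      exact h2
  haveI : Fintype (Q ⧸ (center K).subgroupOf Q) := Fintype.ofFinite _
  have h2 := h1.fintype_card_le_finrank
  rw [Module.finrank_linearMap] at h2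
  rw [Nat.card_eq_fintype_card, pow_two]
  exact h2

end Field

/-- LEMMA SINGER, the irreducible case: impossible -/
theorem Sing.false [Finite K] [Finite Y] {T : Subgroup K} {R D : Submodule (ZMod 2) Y} (S : Sing ρ T R D)
    (hodd : Odd (Nat.card K)) (hsol : Group.IsSolvable K) (hinj : Function.Injective ρ) (hI : Irr ρ) (hD : D ≠ ⊥)
    (hN : normalClosure (T : Set K) = ⊤) (hcard : Nat.card Y ≤ Nat.card R ^ 2) (h8 : 8 ≤ Nat.card R) : False := by
  classical
  obtain ⟨v, hv, hv0⟩ := D.ne_bot_iff.1 hD
  have hnt : Nontrivial Y := ⟨⟨v, 0, hv0⟩⟩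
  have hR : R ≠ ⊥ := by
    rintro rfl
    rw [Nat.card_unique] at h8
    omega
  have hcT := S.card_T hR
  have hT : T ≠ ⊥ := by
    rintro rfl
    rw [Nat.card_unique] at hcT
    omega
  obtain ⟨t, ht, ht1⟩ := T.bot_or_exists_ne_one.resolve_left hT
  have hle : ∀ {A : Subgroup K}, A.Normal → (∀ a ∈ A, ∀ b ∈ A, a * b = b * a) → A ≤ center K := fun hA hc =>
    S.le_center hodd hinj hI hD hN hcard h8 hA hc
  have hcen : ∀ {B : Subgroup K}, B.Normal → (∀ x ∈ B, ∀ s ∈ T, x * s = s * x) → B ≤ center K := by
    intro B hB h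
    have h1 : (T : Set K) ⊆ (centralizer (B : Set K) : Subgroup K) := fun s hs =>
      mem_centralizer_iff.2 (fun b hb => h b hb s hs)
    have h3 : (centralizer (B : Set K)).Normal := inferInstance
    have h2 : (⊤ : Subgroup K) ≤ centralizer (B : Set K) := by
      rw [← hN]
      exact normalClosure_le_normal h1
    intro b hb
    rw [mem_center_iff]
    intro g
    exact (mem_centralizer_iff.1 (h2 (mem_top g)) b hb).symm
  -- the centre is not everything
  have hnc : ¬ (⊤ : Subgroup K) ≤ center K := by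
    intro h
    have h1 : ∀ k, ∀ r ∈ R, ρ k r ∈ R := fun k r hr => by
      refine S.pres_R ht ht1 ?_ hr
      show ρ t * ρ k = ρ k * ρ t
      rw [← map_mul, ← map_mul, mem_center_iff.1 (h (mem_top k)) t]
    rcases hI R h1 with h2 | h2
    · exact hR h2
    · apply hD
      have h3 := S.compl.inf_eq_bot
      rw [h2, top_inf_eq] at h3
      exact h3
  -- the field
  have hZc : ∀ a ∈ center K, ∀ b ∈ center K, a * b = b * a := fun a _ b hb => mem_center_iff.1 hb a
  obtain ⟨e, he⟩ := exists_min (ρ := ρ) hZc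
  have he1 : e = 1 := by
    refine idem_eq_one hI he.idem he.ne (fun k => ?_)
    rw [cj_eq_iff]
    exact commute_of ρ (fun a ha => commute_center ha k) he.mem
  subst he1
  obtain ⟨F, hF, hFf, φ, hφr⟩ := exists_field hodd hZc he
  have hφ : ∀ c k, Commute (ρ k) (φ c) := fun c k =>
    commute_of ρ (fun a ha => commute_center ha k) ((hφr (φ c)).2 ⟨c, rfl⟩)
  have hZ : ∀ z ∈ center K, ∃ c, φ c = ρ z := fun z hz => (hφr (ρ z)).1 (mem_alg ρ hz)
  -- the group `Q`
  have hex : ∃ n, derivedSeries K n ≤ center K := by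
    obtain ⟨n, hn⟩ := (Group.isSolvable_def K).1 hsol
    exact ⟨n, by rw [hn]; exact bot_le⟩
  obtain ⟨m, hm⟩ : ∃ m, Nat.find hex = m + 1 := by
    apply Nat.exists_eq_succ_of_ne_zero
    intro h0
    have h1 := Nat.find_spec hex
    rw [h0, derivedSeries_zero] at h1
    exact hnc h1
  set Q := derivedSeries K m with hQ
  have hQn : Q.Normal := derivedSeries_normal K m
  have hQc : ¬ Q ≤ center K := Nat.find_min hex (by rw [hm]; exact Nat.lt_succ_self m)
  have comm : ∀ x ∈ Q, ∀ y ∈ Q, ⁅x, y⁆ ∈ center K := by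
    intro x hx y hy
    have h1 := Nat.find_spec hex
    rw [hm, derivedSeries_succ] at h1
    exact h1 (commutator_mem_commutator hx hy)
  have cen : ∀ x ∈ Q, (∀ y ∈ Q, x * y = y * x) → x ∈ center K := by
    intro x hx h
    have h1 : (Q ⊓ centralizer (Q : Set K)).Normal := by
      have : (centralizer (Q : Set K)).Normal := inferInstance
      infer_instance
    refine hle h1 (fun a ha b hb => (mem_centralizer_iff.1 hb.2 a ha.1)) ⟨hx, mem_centralizer_iff.2 fun y hy => (h y hy).symm⟩
  have M : MD ρ T R D Q := ⟨S, hinj, hI, hD, hodd, hQn, comm, cen⟩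
  have hncm : ∃ x ∈ Q, ∃ s ∈ T, x * s ≠ s * x := by
    by_contra hcon
    push Not at hcon
    exact hQc (hcen hQn hcon)
  -- the count
  have hN1 := M.card_le hR hncm
  rw [hcT] at hN1
  letI : Module F Y := Module.compHom Y φ
  have hN2 : Nat.card (Q ⧸ (center K).subgroupOf Q) ≤ finrank F Y ^ 2 := card_le_sq φ hinj hφ hZ comm cen
  have hNodd : Odd (Nat.card (Q ⧸ (center K).subgroupOf Q)) :=
    (hodd.of_dvd_nat (card_subgroup_dvd_card Q)).of_dvd_nat (card_quotient_dvd_card _)
  have hfin : Module.Finite F Y := Module.Finite.of_finite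
  let R' : Submodule F Y :=
    { carrier := R
      add_mem' := fun ha hb => R.add_mem ha hb
      zero_mem' := R.zero_mem
      smul_mem' := fun c r hr => S.pres_R ht ht1 (hφ c t) hr }
  have hcR : Nat.card R = Nat.card F ^ finrank F R' := Module.natCard_eq_pow_finrank (K := F) (V := R')
  have hcY : Nat.card Y = Nat.card F ^ finrank F Y := Module.natCard_eq_pow_finrank
  have hF1 : 1 < Nat.card F := Finite.one_lt_card
  -- `4 ≤ |F|`
  have hF4 : 4 ≤ Nat.card F := by
    have h2 : 2 ∣ Nat.card F := by
      have h3 : (1 : F) + 1 = 0 := by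
        apply φ.injective
        rw [map_add, map_one, map_zero]
        exact add_self_end 1
      have h4 : addOrderOf (1 : F) = 2 := by
        apply addOrderOf_eq_prime
        · rw [two_nsmul]; exact h3
        · exact one_ne_zero
      rw [← h4]
      exact addOrderOf_dvd_natCard 1
    have h3 : Nat.card F ≠ 2 := by
      intro h4
      -- then the centre is trivial
      have h5 : ∀ c : F, c = 0 ∨ c = 1 := by
        intro c
        by_contra hcon
        push Not at hcon
        have h6 : ({0, 1, c} : Finset F).card = 3 := by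
          rw [Finset.card_eq_three]
          exact ⟨0, 1, c, zero_ne_one, hcon.1.symm, hcon.2.symm, rfl⟩
        haveI : Fintype F := Fintype.ofFinite F
        have h7 := Finset.card_le_univ ({0, 1, c} : Finset F)
        rw [h6, ← Nat.card_eq_fintype_card, h4] at h7
        omega
      have h6 : center K = ⊥ := by
        rw [eq_bot_iff]
        intro z hz
        rw [mem_bot]
        obtain ⟨c, hc⟩ := hZ z hz
        rcases h5 c with rfl | rfl
        · exfalso
          rw [map_zero] at hc
          have h7 := LinearMap.congr_fun hc v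
          exact hv0 (apply_inj ρ z (h7.symm.trans (map_zero (ρ z)).symm))
        · apply hinj
          rw [map_one, ← hc, map_one]
      -- `Q` is abelian
      apply hQc
      refine hle hQn (fun a ha b hb => ?_)
      have h7 := comm a ha b hb
      rw [h6, mem_bot] at h7
      exact commutatorElement_eq_one_iff_mul_comm.1 h7
    obtain ⟨a, ha⟩ := h2
    omega
  set ν := finrank F R' with hν
  set δ := finrank F Y with hδ
  set q := Nat.card F with hq
  have hδν : δ ≤ 2 * ν := by
    rw [hcY, hcR, ← pow_mul, mul_comm ν 2] at hcard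
    exact (Nat.pow_le_pow_iff_right hF1).1 hcard
  have h1 : q ^ ν ≤ (2 * ν) ^ 2 := by
    rw [← hcR]
    exact hN1.trans (hN2.trans (Nat.pow_le_pow_left hδν 2))
  have h2 : ν < 3 := by
    by_contra hcon
    push Not at hcon
    have h3 := num2 hcon
    have h4 : 4 ^ ν ≤ q ^ ν := Nat.pow_le_pow_left hF4 ν
    omega
  have h3 : 8 ≤ q ^ ν := by rw [← hcR]; exact h8
  interval_cases ν
  · norm_num at h3
  · norm_num at h1 h3
    omega
  · have h4 : 16 ≤ q ^ 2 := by nlinarith
    have h5 : (2 * 2) ^ 2 = 16 := by norm_num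
    have h6 : Nat.card (Q ⧸ (center K).subgroupOf Q) = 16 := by
      have h7 : δ ^ 2 ≤ (2 * 2) ^ 2 := Nat.pow_le_pow_left hδν 2
      rw [hcR] at hN1
      omega
    rw [h6] at hNodd
    exact absurd hNodd (by decide)

end Cfsg.Agent.Omega.NOThreeL.Ns.Singer
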