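import Cfsg.Agent.Omega.NOThreeL.Ns.Singer.Irred

/-!
# LEMMA SINGER (#21702, helper369), part 5: the theorem

`K` finite, soluble, of odd order, acting on the elementary abelian 2-group `Y = R ⊕ D`, `T ≤ K` abelian, trivial
on `D`, regular on `R#`, `|R| ≥ 8`, `|Y| ≤ |R|²`: then `K` normalises `R` and `D` (`Sing.pres`).
-/

set_option autoImplicit false

namespace Cfsg.Agent.Omega.NOThreeL.Ns.Singer

open Module Subgroup

universe u v

variable {K : Type u} [Group K] {Y : Type v} [AddCommGroup Y] [Module (ZMod 2) Y]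
  {ρ : K →* End (ZMod 2) Y}

theorem odd_nsmul {n : ℕ} (h : Odd n) (y : Y) : n • y = y := by
  obtain ⟨m, rfl⟩ := h
  have h1 : (2 : ℕ) • y = 0 := by rw [two_nsmul]; exact ZModModule.add_self y
  rw [add_smul, one_smul, mul_comm, mul_smul, h1, smul_zero, zero_add]

/-- the average over `K` -/
theorem exists_av [Finite K] (ρ : K →* End (ZMod 2) Y) (hodd : Odd (Nat.card K)) :
    ∃ e : End (ZMod 2) Y, (∀ k y, e (ρ k y) = e y) ∧ (∀ k y, ρ k (e y) = e y) ∧
      ∀ (W : Submodule (ZMod 2) Y) (y : Y), (∀ k, ρ k y - y ∈ W) → e y - y ∈ W := by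
  classical
  have : Fintype K := Fintype.ofFinite K
  refine ⟨∑ k : K, ρ k, fun k y => ?_, fun k y => ?_, fun W y h => ?_⟩
  · rw [LinearMap.sum_apply, LinearMap.sum_apply]
    refine Fintype.sum_equiv (Equiv.mulRight k) _ _ (fun l => ?_)
    rw [Equiv.coe_mulRight, map_mul]
    rfl
  · rw [LinearMap.sum_apply, map_sum]
    refine Fintype.sum_equiv (Equiv.mulLeft k) _ _ (fun l => ?_)
    rw [Equiv.coe_mulLeft, map_mul]
    rfl
  · have h1 : (∑ k : K, ρ k) y - y = ∑ k : K, (ρ k y - y) := by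
      rw [LinearMap.sum_apply, Finset.sum_sub_distrib, Finset.sum_const, Finset.card_univ,
        ← Nat.card_eq_fintype_card, odd_nsmul hodd]
    rw [h1]
    exact Submodule.sum_mem _ (fun k _ => h k)

namespace Sing

variable {T : Subgroup K} {R D : Submodule (ZMod 2) Y}

theorem ne_bot (h8 : 8 ≤ Nat.card R) : R ≠ ⊥ := by
  rintro rfl
  rw [Nat.card_unique] at h8
  omega

theorem exists_ne [Finite Y] (S : Sing ρ T R D) (h8 : 8 ≤ Nat.card R) : ∃ t ∈ T, t ≠ 1 := by
  have hcT := S.card_T (ne_bot h8)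
  have hT : T ≠ ⊥ := by
    rintro rfl
    rw [Nat.card_unique] at hcT
    omega
  exact T.bot_or_exists_ne_one.resolve_left hT

/-- a `T`-invariant subspace contains `R` or lies in `D` -/
theorem le_or [Finite Y] (S : Sing ρ T R D) (h8 : 8 ≤ Nat.card R) {W : Submodule (ZMod 2) Y}
    (hW : ∀ t ∈ T, ∀ w ∈ W, ρ t w ∈ W) : R ≤ W ∨ W ≤ D := by
  by_cases h : ∀ t ∈ T, ∀ w ∈ W, ρ t w = w
  · right
    obtain ⟨t, ht, ht1⟩ := S.exists_ne h8
    intro w hw
    exact S.mem_D ht ht1 (h t ht w hw)
  · left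
    push Not at h
    obtain ⟨t, ht, w, hw, hne⟩ := h
    have h1 : ρ t w - w ∈ W := W.sub_mem (hW t ht w hw) hw
    have h2 : ρ t w - w ∈ R := S.sub_mem ht w
    have h3 : ρ t w - w ≠ 0 := sub_ne_zero.2 hne
    intro r hr
    rcases eq_or_ne r 0 with rfl | hr0
    · exact W.zero_mem
    · obtain ⟨s, hs, rfl⟩ := S.trans _ h2 h3 r hr hr0
      exact hW s hs _ h1

/-- if `K` normalises `R` then it normalises `D` -/
theorem pres_D_of [Finite K] [Finite Y] (S : Sing ρ T R D) (hodd : Odd (Nat.card K)) (h8 : 8 ≤ Nat.card R)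
    (h : ∀ k, ∀ r ∈ R, ρ k r ∈ R) (k : K) {d : Y} (hd : d ∈ D) : ρ k d ∈ D := by
  obtain ⟨t, ht, ht1⟩ := S.exists_ne h8
  let W : Subgroup K :=
    { carrier := {k | ∀ y, ρ k y - y ∈ R}
      one_mem' := fun y => by rw [map_one]; exact (sub_self y).symm ▸ R.zero_mem
      mul_mem' := by
        intro a b ha hb y
        have h1 : ρ (a * b) y - y = (ρ a (ρ b y) - ρ b y) + (ρ b y - y) := by
          rw [map_mul, Module.End.mul_apply]; abel
        rw [h1]
        exact R.add_mem (ha _) (hb _)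
      inv_mem' := by
        intro a ha y
        have h1 : ρ a⁻¹ y - y = -(ρ a (ρ a⁻¹ y) - ρ a⁻¹ y) := by rw [apply_inv]; abel
        rw [h1]
        exact R.neg_mem (ha _) }
  have hWn : W.Normal := by
    refine ⟨fun a ha g y => ?_⟩
    have h1 : ρ (g * a * g⁻¹) y - y = ρ g (ρ a (ρ g⁻¹ y) - ρ g⁻¹ y) := by
      rw [map_sub, apply_inv, map_mul, map_mul]
      rfl
    rw [h1]
    exact h g _ (ha _)
  have hN : normalClosure (T : Set K) ≤ W := normalClosure_le_normal (fun s hs y => S.sub_mem hs y)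
  have hoddN : Odd (Nat.card (normalClosure (T : Set K))) := hodd.of_dvd_nat (card_subgroup_dvd_card _)
  obtain ⟨e, -, h2, h3⟩ := exists_av (ρ.comp (normalClosure (T : Set K)).subtype) hoddN
  have hTN : ∀ s ∈ T, s ∈ normalClosure (T : Set K) := fun s hs => subset_normalClosure hs
  have h4 : e d - d = 0 := by
    refine S.eq_zero (h3 R d fun n => hN n.2 d) (D.sub_mem ?_ hd)
    exact S.mem_D ht ht1 (h2 ⟨t, hTN t ht⟩ d)
  have h5 : ∀ n ∈ normalClosure (T : Set K), ρ n d = d := by
    intro n hn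
    have h6 := h2 ⟨n, hn⟩ d
    rw [sub_eq_zero.1 h4] at h6
    exact h6
  refine S.mem_D ht ht1 ?_
  have h6 : k⁻¹ * t * k ∈ normalClosure (T : Set K) := by
    have := (normalClosure_normal (s := (T : Set K))).conj_mem t (hTN t ht) k⁻¹
    rwa [inv_inv] at this
  calc ρ t (ρ k d) = ρ k (ρ (k⁻¹ * t * k) d) := by
        rw [← Module.End.mul_apply, ← Module.End.mul_apply, ← map_mul, ← map_mul]
        congr 2
        group
    _ = ρ k d := by rw [h5 _ h6]

theorem card_map [Finite Y] (k : K) (W : Submodule (ZMod 2) Y) : Nat.card (W.map (ρ k)) = Nat.card W :=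
  Nat.card_congr (Submodule.equivMapOfInjective (ρ k) (fun _ _ h => apply_inj ρ k h) W).symm.toEquiv

theorem eq_of_le_card [Finite Y] {W W' : Submodule (ZMod 2) Y} (h : W ≤ W') (hc : Nat.card W' ≤ Nat.card W) :
    W = W' := by
  apply SetLike.coe_injective
  refine Set.eq_of_subset_of_ncard_le h ?_ (Set.toFinite _)
  rw [← Nat.card_coe_set_eq, ← Nat.card_coe_set_eq]
  exact hc

theorem pow_pres {k : K} (h : ∀ r ∈ R, ρ k r ∈ R) (n : ℕ) : ∀ r ∈ R, ρ (k ^ n) r ∈ R := by
  induction n with
  | zero => intro r hr; rw [pow_zero, map_one]; exact hr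
  | succ n ih =>
    intro r hr
    rw [pow_succ, map_mul]
    exact ih _ (h r hr)

theorem card_D [Finite Y] (S : Sing ρ T R D) (hcard : Nat.card Y ≤ Nat.card R ^ 2) : Nat.card D ≤ Nat.card R := by
  have h1 : Nat.card Y = Nat.card R * Nat.card D := by
    rw [← Nat.card_prod]
    exact (Nat.card_congr (Submodule.prodEquivOfIsCompl R D S.compl).toEquiv).symm
  rw [h1, pow_two] at hcard
  have : 0 < Nat.card R := Nat.card_pos
  exact Nat.le_of_mul_le_mul_left hcard this

end Sing

/-- the representation on an invariant subspace -/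
def sub (ρ : K →* End (ZMod 2) Y) (W : Submodule (ZMod 2) Y) (hW : ∀ k, ∀ w ∈ W, ρ k w ∈ W) :
    K →* End (ZMod 2) W where
  toFun k := (ρ k).restrict (hW k)
  map_one' := by
    ext w
    rw [LinearMap.coe_restrict_apply, map_one]
    rfl
  map_mul' a b := by
    ext w
    rw [Module.End.mul_apply, LinearMap.coe_restrict_apply, LinearMap.coe_restrict_apply,
      LinearMap.coe_restrict_apply, map_mul]
    rfl

theorem sub_apply (ρ : K →* End (ZMod 2) Y) (W : Submodule (ZMod 2) Y) (hW : ∀ k, ∀ w ∈ W, ρ k w ∈ W) (k : K)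
    (w : W) : ((sub ρ W hW k w : W) : Y) = ρ k w := rfl

theorem lift_injective (ρ : K →* End (ZMod 2) Y) : Function.Injective (QuotientGroup.lift ρ.ker ρ le_rfl) := by
  intro a b hab
  induction a using QuotientGroup.induction_on with
  | H a =>
    induction b using QuotientGroup.induction_on with
    | H b =>
      rw [QuotientGroup.lift_mk, QuotientGroup.lift_mk] at hab
      apply QuotientGroup.eq.2
      rw [MonoidHom.mem_ker, map_mul, ← hab, inv_mul_self]

/-- the case where `T` generates `K` normally -/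
theorem Sing.pres_top [Finite K] [Finite Y] {T : Subgroup K} {R D : Submodule (ZMod 2) Y} (S : Sing ρ T R D)
    (hodd : Odd (Nat.card K)) (hsol : Group.IsSolvable K) (hN : normalClosure (T : Set K) = ⊤)
    (hcard : Nat.card Y ≤ Nat.card R ^ 2) (h8 : 8 ≤ Nat.card R) : ∀ k, ∀ r ∈ R, ρ k r ∈ R := by
  obtain ⟨t, ht, ht1⟩ := S.exists_ne h8
  by_contra hcon
  set Y₁ : Submodule (ZMod 2) Y := ⨆ k : K, R.map (ρ k) with hY₁
  have hRY : R ≤ Y₁ := by
    refine le_trans ?_ (le_iSup (fun k : K => R.map (ρ k)) 1)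
    intro r hr
    exact ⟨r, hr, by rw [map_one]; rfl⟩
  have hinv : ∀ k, ∀ w ∈ Y₁, ρ k w ∈ Y₁ := by
    intro k w hw
    have h1 : Y₁ ≤ Y₁.comap (ρ k) := by
      conv_lhs => rw [hY₁]
      refine iSup_le fun l => ?_
      rintro _ ⟨r, hr, rfl⟩
      rw [Submodule.mem_comap, ← Module.End.mul_apply, ← map_mul]
      exact le_iSup (fun k : K => R.map (ρ k)) (k * l) ⟨r, hr, rfl⟩
    exact h1 hw
  have hYle : ∀ W : Submodule (ZMod 2) Y, (∀ k, ∀ w ∈ W, ρ k w ∈ W) → R ≤ W → Y₁ ≤ W := by
    intro W hW hR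
    rw [hY₁]
    refine iSup_le fun l => ?_
    rintro _ ⟨r, hr, rfl⟩
    exact hW l r (hR hr)
  -- the average kills `Y₁`
  obtain ⟨e, he1, he2, he3⟩ := exists_av ρ hodd
  have heR : ∀ r ∈ R, e r = 0 := by
    intro r hr
    obtain ⟨eT, -, h2, h3⟩ := exists_av (ρ.comp T.subtype) (hodd.of_dvd_nat (card_subgroup_dvd_card T))
    have h4 : eT r - r ∈ R := h3 R r (fun s => R.sub_mem (S.inv s s.2 r hr) hr)
    have h5 : eT r ∈ R := by
      have := R.add_mem h4 hr
      rwa [sub_add_cancel] at this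
    have h6 : eT r = 0 := S.free t ht ht1 _ h5 (h2 ⟨t, ht⟩ r)
    have h7 : eT r - r ∈ LinearMap.ker e := by
      refine h3 _ r (fun s => ?_)
      rw [LinearMap.mem_ker, map_sub, sub_eq_zero]
      exact he1 s r
    rw [h6, zero_sub, LinearMap.mem_ker, map_neg, neg_eq_zero] at h7
    exact h7
  have heY : ∀ y ∈ Y₁, e y = 0 := by
    intro y hy
    have h1 : Y₁ ≤ LinearMap.ker e := by
      refine hYle _ (fun k w hw => ?_) (fun r hr => ?_)
      · rw [LinearMap.mem_ker] at hw ⊢
        rw [he1, hw]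
      · rw [LinearMap.mem_ker]
        exact heR r hr
    exact h1 hy
  -- the representation on `Y₁`
  set σ := sub ρ Y₁ hinv with hσ
  set R₁ := R.comap Y₁.subtype with hR₁
  set D₁ := D.comap Y₁.subtype with hD₁
  have hcR : Nat.card R₁ = Nat.card R := Nat.card_congr (Submodule.comapSubtypeEquivOfLe hRY).toEquiv
  have S₁ : Sing σ T R₁ D₁ :=
    { com := S.com
      fix := fun s hs d hd => Subtype.ext (S.fix s hs d hd)
      inv := fun s hs r hr => S.inv s hs r hr
      trans := fun r hr hr0 r' hr' hr0' => by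
        obtain ⟨s, hs, h⟩ := S.trans r hr (fun h => hr0 (Subtype.ext h)) r' hr' (fun h => hr0' (Subtype.ext h))
        exact ⟨s, hs, Subtype.ext h⟩
      free := fun s hs hs1 r hr h => Subtype.ext (S.free s hs hs1 r hr (congrArg Subtype.val h))
      compl := Submodule.isCompl_comap_subtype_of_isCompl_of_le S.compl hRY }
  have hI₁ : Irr σ := by
    intro W' hW'
    have hWinv : ∀ k, ∀ w ∈ W'.map Y₁.subtype, ρ k w ∈ W'.map Y₁.subtype := by
      rintro k _ ⟨w, hw, rfl⟩
      exact ⟨σ k w, hW' k w hw, rfl⟩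
    rcases S.le_or h8 (fun t _ w hw => hWinv t w hw) with h | h
    · right
      rw [eq_top_iff]
      intro w _
      obtain ⟨w', hw', h2⟩ := hYle _ hWinv h w.2
      have : w' = w := Subtype.ext h2
      exact this ▸ hw'
    · left
      rw [eq_bot_iff]
      intro w hw
      -- `K` is trivial on `W'`
      let C : Subgroup K :=
        { carrier := {k | ∀ w ∈ W'.map Y₁.subtype, ρ k w = w}
          one_mem' := fun w _ => by rw [map_one]; rfl
          mul_mem' := by
            intro a b ha hb w hw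
            rw [map_mul, Module.End.mul_apply, hb w hw, ha w hw]
          inv_mem' := by
            intro a ha w hw
            have h1 := congrArg (ρ a⁻¹) (ha w hw)
            rw [inv_apply] at h1
            exact h1.symm }
      have hCn : C.Normal := by
        refine ⟨fun a ha g w hw => ?_⟩
        rw [map_mul, map_mul, Module.End.mul_apply, Module.End.mul_apply, ha _ (hWinv g⁻¹ w hw), apply_inv]
      have hC : normalClosure (T : Set K) ≤ C := normalClosure_le_normal (fun s hs w hw => S.fix s hs w (h hw))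
      rw [hN] at hC
      have h1 : ∀ k, ρ k (w : Y) = w := fun k => hC (mem_top k) _ ⟨w, hw, rfl⟩
      have h2 : e (w : Y) - w ∈ (⊥ : Submodule (ZMod 2) Y) := he3 ⊥ w (fun k => by rw [h1 k, sub_self]; exact zero_mem _)
      rw [Submodule.mem_bot, heY w w.2, zero_sub, neg_eq_zero] at h2
      rw [Submodule.mem_bot]
      exact Subtype.ext h2
  have hDne : D₁ ≠ ⊥ := by
    intro h
    apply hcon
    have h1 : R₁ = ⊤ := by
      have h2 := S₁.compl.sup_eq_top
      rw [h, sup_bot_eq] at h2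
      exact h2
    have h2 : Y₁ ≤ R := Submodule.comap_subtype_eq_top.1 h1
    intro k r hr
    exact h2 (hinv k r (hRY hr))
  -- the quotient
  set π := QuotientGroup.mk' σ.ker with hπ
  set τ := QuotientGroup.lift σ.ker σ le_rfl with hτ
  have hτπ : ∀ k, τ (π k) = σ k := fun k => QuotientGroup.lift_mk _ _ _
  have S₂ : Sing τ (T.map π) R₁ D₁ :=
    { com := by
        rintro _ ⟨a, ha, rfl⟩ _ ⟨b, hb, rfl⟩
        rw [← map_mul, ← map_mul, S.com a ha b hb]
      fix := by
        rintro _ ⟨a, ha, rfl⟩ d hd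
        rw [hτπ]
        exact S₁.fix a ha d hd
      inv := by
        rintro _ ⟨a, ha, rfl⟩ r hr
        rw [hτπ]
        exact S₁.inv a ha r hr
      trans := by
        intro r hr hr0 r' hr' hr0'
        obtain ⟨a, ha, h⟩ := S₁.trans r hr hr0 r' hr' hr0'
        exact ⟨π a, ⟨a, ha, rfl⟩, by rw [hτπ]; exact h⟩
      free := by
        rintro _ ⟨a, ha, rfl⟩ h1 r hr h
        rw [hτπ] at h
        exact S₁.free a ha (fun h2 => h1 (by rw [h2, map_one])) r hr h
      compl := S₁.compl }
  refine S₂.false (hodd.of_dvd_nat (card_quotient_dvd_card _)) inferInstance (lift_injective σ) ?_ hDne ?_ ?_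
    (by rw [hcR]; exact h8)
  · intro W hW
    exact hI₁ W (fun k w hw => by rw [← hτπ]; exact hW (π k) w hw)
  · rw [coe_map, ← map_normalClosure _ _ (QuotientGroup.mk'_surjective _), hN]
    exact map_top_of_surjective _ (QuotientGroup.mk'_surjective _)
  · rw [hcR]
    exact (Nat.card_le_card_of_injective (Subtype.val : Y₁ → Y) Subtype.val_injective).trans hcard

/-- `K` normalises `R` (induction) -/
theorem Sing.pres_R_aux [Finite Y] {R D : Submodule (ZMod 2) Y} (hcard : Nat.card Y ≤ Nat.card R ^ 2)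
    (h8 : 8 ≤ Nat.card R) (n : ℕ) : ∀ (K : Type u) [Group K] [Finite K] (ρ : K →* End (ZMod 2) Y) (T : Subgroup K),
    Nat.card K ≤ n → Sing ρ T R D → Odd (Nat.card K) → Group.IsSolvable K → ∀ k, ∀ r ∈ R, ρ k r ∈ R := by
  induction n with
  | zero =>
    intro K _ _ ρ T hn
    exact absurd hn (Nat.not_le.2 Nat.card_pos)
  | succ n ih =>
    intro K _ _ ρ T hn S hodd hsol
    by_cases hN : normalClosure (T : Set K) = ⊤
    · exact S.pres_top hodd hsol hN hcard h8
    set N := normalClosure (T : Set K) with hNd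
    have hTN : T ≤ N := fun s hs => subset_normalClosure hs
    have hcN : Nat.card N ≤ n := by
      have h1 : Nat.card N < Nat.card K := by
        refine lt_of_le_of_ne (card_le_card_group N) fun h => hN ?_
        exact eq_top_of_card_eq N h
      omega
    have hoddN : Odd (Nat.card N) := hodd.of_dvd_nat (card_subgroup_dvd_card N)
    have SN : Sing (ρ.comp N.subtype) (T.subgroupOf N) R D :=
      { com := fun a ha b hb => Subtype.ext (S.com a ha b hb)
        fix := fun a ha d hd => S.fix a ha d hd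
        inv := fun a ha r hr => S.inv a ha r hr
        trans := fun r hr hr0 r' hr' hr0' => by
          obtain ⟨s, hs, h⟩ := S.trans r hr hr0 r' hr' hr0'
          exact ⟨⟨s, hTN hs⟩, hs, h⟩
        free := fun a ha ha1 r hr h => S.free a ha (fun h1 => ha1 (Subtype.ext h1)) r hr h
        compl := S.compl }
    have hRN : ∀ k ∈ N, ∀ r ∈ R, ρ k r ∈ R := fun k hk =>
      ih N (ρ.comp N.subtype) (T.subgroupOf N) hcN SN hoddN inferInstance ⟨k, hk⟩
    have hDN : ∀ k ∈ N, ∀ d ∈ D, ρ k d ∈ D := fun k hk d hd =>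
      SN.pres_D_of hoddN h8 (fun n r hr => hRN n n.2 r hr) ⟨k, hk⟩ hd
    have hNn : N.Normal := normalClosure_normal
    -- the images of `N`-invariant subspaces
    have hmap : ∀ (W : Submodule (ZMod 2) Y) (k : K), (∀ n ∈ N, ∀ w ∈ W, ρ n w ∈ W) →
        ∀ t ∈ T, ∀ w ∈ W.map (ρ k), ρ t w ∈ W.map (ρ k) := by
      rintro W k hW t ht _ ⟨w, hw, rfl⟩
      refine ⟨ρ (k⁻¹ * t * k) w, hW _ ?_ w hw, ?_⟩
      · have := hNn.conj_mem t (hTN ht) k⁻¹
        rwa [inv_inv] at this
      · rw [← Module.End.mul_apply, ← Module.End.mul_apply, ← map_mul, ← map_mul]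
        congr 2
        group
    intro k
    have hDR := S.card_D hcard
    have key : ∀ l : K, R ≤ R.map (ρ l) → ∀ r ∈ R, ρ l r ∈ R := by
      intro l hl r hr
      have h1 : R = R.map (ρ l) := Sing.eq_of_le_card hl (Sing.card_map l R).le
      rw [h1]
      exact ⟨r, hr, rfl⟩
    rcases S.le_or h8 (hmap R k hRN) with h | h
    · exact key k h
    · -- `k R = D`
      have h1 : R.map (ρ k) = D := Sing.eq_of_le_card h (hDR.trans (Sing.card_map k R).ge)
      have h2 : R ≤ R.map (ρ (k ^ 2)) := by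
        have h3 : R.map (ρ (k ^ 2)) = D.map (ρ k) := by
          rw [← h1, ← Submodule.map_comp]
          congr 1
          rw [pow_two, map_mul]
          rfl
        rw [h3]
        rcases S.le_or h8 (hmap D k hDN) with h4 | h4
        · exact h4
        · exfalso
          apply Sing.ne_bot h8
          rw [eq_bot_iff]
          intro r hr
          have h5 : D.map (ρ k) = D := Sing.eq_of_le_card h4 (Sing.card_map k D).ge
          have h6 : ρ k r ∈ D := h1 ▸ ⟨r, hr, rfl⟩
          rw [← h5] at h6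
          obtain ⟨d, hd, h7⟩ := h6
          have h8 := apply_inj ρ k h7
          rw [Submodule.mem_bot]
          exact S.eq_zero hr (h8 ▸ hd)
      have h3 := key (k ^ 2) h2
      have h4 : Odd (orderOf k) := hodd.of_dvd_nat (orderOf_dvd_natCard k)
      obtain ⟨m, hm⟩ := h4
      have h5 : (k ^ 2) ^ (m + 1) = k := by
        rw [← pow_mul]
        have h6 : 2 * (m + 1) = orderOf k + 1 := by omega
        rw [h6, pow_succ, pow_orderOf_eq_one, one_mul]
      intro r hr
      have h6 := Sing.pow_pres h3 (m + 1) r hr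
      rwa [h5] at h6

/-- **LEMMA SINGER.** `K` normalises `R` and `D`. -/
theorem Sing.pres [Finite K] [Finite Y] {T : Subgroup K} {R D : Submodule (ZMod 2) Y} (S : Sing ρ T R D)
    (hodd : Odd (Nat.card K)) (hsol : Group.IsSolvable K) (hcard : Nat.card Y ≤ Nat.card R ^ 2)
    (h8 : 8 ≤ Nat.card R) (k : K) : (∀ r ∈ R, ρ k r ∈ R) ∧ ∀ d ∈ D, ρ k d ∈ D := by
  have h := Sing.pres_R_aux hcard h8 _ K ρ T le_rfl S hodd hsol
  exact ⟨h k, fun d hd => S.pres_D_of hodd h8 h k hd⟩

end Cfsg.Agent.Omega.NOThreeL.Ns.Singer
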